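import Mathlib

/-!
# Covers of the prime graph by cliques (helper420)

`Cover G q c` : the primes greater than 3, not dividing `q` and dividing `|G|` are covered by `c` cliques of the prime
graph of `G`. `Cover.card_le` : then a coclique of such primes has at most `c` elements.
-/

set_option autoImplicit false

namespace Cfsg.Agent.H420.QR

/-- the primes `> 3`, not dividing `q` and dividing `|G|` are covered by `c` cliques of the prime graph of `G` -/
def Cover (G : Type*) [Group G] (q c : ℕ) : Prop :=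
  ∃ C : Fin c → ℕ → Prop,
    (∀ r : ℕ, r.Prime → 3 < r → ¬ r ∣ q → r ∣ Nat.card G → ∃ i, C i r) ∧
    (∀ (i : Fin c) (r s : ℕ), r.Prime → s.Prime → 3 < r → 3 < s → ¬ r ∣ q → ¬ s ∣ q → r ∣ Nat.card G →
      s ∣ Nat.card G → r ≠ s → C i r → C i s → ∃ g : G, orderOf g = r * s)

/-- a coclique of such primes has at most `c` elements -/
theorem Cover.card_le {G : Type*} [Group G] {q c : ℕ} (h : Cover G q c) (ρ : Finset ℕ)
    (h1 : ∀ r ∈ ρ, r.Prime ∧ 3 < r ∧ ¬ r ∣ q ∧ r ∣ Nat.card G)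
    (h2 : ∀ r ∈ ρ, ∀ s ∈ ρ, r ≠ s → ¬ ∃ g : G, orderOf g = r * s) : ρ.card ≤ c := by
  classical
  obtain ⟨C, hC1, hC2⟩ := h
  by_contra hlt
  push Not at hlt
  have h3 : ∀ r : ρ, ∃ i, C i r := fun r => by
    obtain ⟨a, b, c, d⟩ := h1 r r.2
    exact hC1 r a b c d
  choose f hf using h3
  have h4 : Fintype.card (Fin c) < Fintype.card ρ := by
    rw [Fintype.card_fin, Fintype.card_coe]
    exact hlt
  obtain ⟨x, y, hxy, hfe⟩ := Fintype.exists_ne_map_eq_of_card_lt f h4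
  have hne : (x : ℕ) ≠ y := fun e => hxy (Subtype.ext e)
  obtain ⟨a1, b1, c1, d1⟩ := h1 x x.2
  obtain ⟨a2, b2, c2, d2⟩ := h1 y y.2
  exact h2 x x.2 y y.2 hne (hC2 (f x) x y a1 a2 b1 b2 c1 c2 d1 d2 hne (hf x) (hfe ▸ hf y))

theorem Cover.congr {G H : Type*} [Group G] [Group H] (e : G ≃* H) {q c : ℕ} (h : Cover H q c) : Cover G q c := by
  obtain ⟨C, hC1, hC2⟩ := h
  have hc := Nat.card_congr e.toEquiv
  refine ⟨C, fun r a b c d => hC1 r a b c (hc ▸ d), fun i r s a b c d e1 f g h' i' j k => ?_⟩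
  obtain ⟨x, hx⟩ := hC2 i r s a b c d e1 f (hc ▸ g) (hc ▸ h') i' j k
  exact ⟨e.symm x, by rw [MulEquiv.orderOf_eq, hx]⟩

theorem Cover.mono {G : Type*} [Group G] {q c d : ℕ} (hcd : c ≤ d) (h : Cover G q c) : Cover G q d := by
  obtain ⟨C, hC1, hC2⟩ := h
  refine ⟨fun i r => ∃ j : Fin c, (j : ℕ) = i ∧ C j r, fun r a b c' d' => ?_, ?_⟩
  · obtain ⟨i, hi⟩ := hC1 r a b c' d'
    exact ⟨Fin.castLE hcd i, i, rfl, hi⟩
  · rintro i r s a b c' d' e f g h' k ⟨j, hj, hj2⟩ ⟨j', hj', hj2'⟩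
    obtain rfl : j = j' := Fin.ext (by rw [hj, hj'])
    exact hC2 j r s a b c' d' e f g h' k hj2 hj2'

end Cfsg.Agent.H420.QR
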