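import Mathlib

/-!
# Fixed points of an operator of prime order on a finite vector space: counting

* `fx a` : the fixed space of the operator `a`;
* `card_modEq` : `a ^ r = 1`, `S` an invariant set: `|S| ≡ |S ∩ fx a|` modulo the prime `r`;
* quadratic forms: the moved part of an isometry of order prime to the characteristic is not totally singular.
-/

set_option autoImplicit false

namespace Cfsg.Agent.H420.Fix

open Module

variable {F : Type*} [Field F] {V : Type*} [AddCommGroup V] [Module F V]

/-- the fixed space of an operator -/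
def fx (a : Module.End F V) : Submodule F V := LinearMap.ker (a - 1)

theorem mem_fx {a : Module.End F V} {v : V} : v ∈ fx a ↔ a v = v := by
  rw [fx, LinearMap.mem_ker, LinearMap.sub_apply, Module.End.one_apply, sub_eq_zero]

theorem eq_one_of_fx_eq_top {a : Module.End F V} (h : fx a = ⊤) : a = 1 := by
  ext v
  exact mem_fx.1 (h ▸ Submodule.mem_top)

/-- **Counting fixed points.** -/
theorem card_modEq' {X : Type*} [Finite X] {r : ℕ} [hr : Fact r.Prime] {n : ℕ} (f : X → X) (hf : f^[r ^ n] = id) :
    Nat.card X ≡ Nat.card {x // f x = x} [MOD r] := by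
  classical
  have := Fintype.ofFinite X
  let g : Function.End X := f
  have key : ∀ (k : ℕ) (x : X), (g ^ k) x = f^[k] x := by
    intro k
    induction k with
    | zero => intro x; rfl
    | succ k ih => intro x; rw [pow_succ, Function.iterate_succ_apply, ← ih]; rfl
  have hg : g ^ r ^ n = 1 := by
    funext x
    exact (key _ x).trans (congrFun hf x)
  have h := Equiv.Perm.card_fixedPoints_modEq (α := X) (f := g) (p := r) (n := n) hg
  rw [Nat.card_eq_fintype_card, Nat.card_eq_fintype_card]
  refine h.trans ?_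
  rw [← Fintype.card_congr (Equiv.refl {x // f x = x})]
  rfl

theorem card_modEq [Finite V] {r : ℕ} [hr : Fact r.Prime] {n : ℕ} {a : Module.End F V} (ha : a ^ r ^ n = 1)
    (S : Set V) (hS : ∀ v ∈ S, a v ∈ S) :
    Nat.card S ≡ Nat.card (S ∩ fx a : Set V) [MOD r] := by
  have h := card_modEq' (X := S) (r := r) (n := n) (fun v => ⟨a v.1, hS v.1 v.2⟩) (by
    funext v
    apply Subtype.ext
    have : ∀ (k : ℕ) (v : S), (((fun v : S => (⟨a v.1, hS v.1 v.2⟩ : S))^[k] v : S) : V) = (a ^ k) v.1 := by
      intro k
      induction k with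
      | zero => intro v; rfl
      | succ k ih =>
        intro v
        rw [Function.iterate_succ_apply, ih, pow_succ]
        rfl
    rw [this, ha]
    rfl)
  refine h.trans ?_
  rw [Nat.card_congr (?_ : {x : S // (⟨a x.1, hS x.1 x.2⟩ : S) = x} ≃ (S ∩ fx a : Set V))]
  exact
    { toFun := fun x => ⟨x.1.1, x.1.2, mem_fx.2 (congrArg Subtype.val x.2)⟩
      invFun := fun x => ⟨⟨x.1, x.2.1⟩, Subtype.ext (mem_fx.1 x.2.2)⟩
      left_inv := fun _ => rfl
      right_inv := fun _ => rfl }

/-- Invariant subspaces. -/
theorem card_sub_modEq [Finite V] {r : ℕ} [hr : Fact r.Prime] {n : ℕ} {a : Module.End F V} (ha : a ^ r ^ n = 1)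
    (W : Submodule F V) (hW : ∀ v ∈ W, a v ∈ W) :
    Nat.card W ≡ Nat.card ↥(W ⊓ fx a) [MOD r] := by
  exact card_modEq (r := r) (n := n) ha (W : Set V) hW

theorem card_eq_pow [Finite V] (W : Submodule F V) : Nat.card W = Nat.card F ^ finrank F W :=
  Module.natCard_eq_pow_finrank

theorem comm_mem_fx {a b : Module.End F V} (h : a * b = b * a) {v : V} (hv : v ∈ fx b) : a v ∈ fx b := by
  rw [mem_fx] at hv ⊢
  calc b (a v) = (b * a) v := rfl
    _ = (a * b) v := by rw [h]
    _ = a (b v) := rfl
    _ = a v := by rw [hv]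

end Cfsg.Agent.H420.Fix
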