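import Cfsg.Agent.LieClassical.OmegaReindex
import Cfsg.Agent.LieClassical.OmegaCenter
import Cfsg.Agent.H420.Fix

/-!
# Elements of odd order of `POmega F Q` lift to isometries of the same order

* `op g` : the operator of an isometry, `opHom` the monoid homomorphism (injective);
* `exists_lift` : an element of odd order `n` of `POmega F Q` is the image of an element of order `n` of `Omega F Q`.
-/

set_option autoImplicit false

namespace Cfsg.Agent.H420.Lift

open Matrix QuadraticMap
open Cfsg.Agent.LieClassical.OmegaCenter (omegaMat omega_ext mem_center_omega_iff)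

variable {F : Type*} [Field F] {ι : Type} [Fintype ι] [DecidableEq ι]

/-- the operators of the isometries -/
noncomputable def opHom (Q : (ι → F) → F) : Cfsg.isometryGroup F Q →* Module.End F (ι → F) :=
  ((Matrix.toLinAlgEquiv' (R := F) (n := ι)).toAlgHom.toMonoidHom.comp (Units.coeHom _)).comp
    (Cfsg.isometryGroup F Q).subtype

theorem opHom_apply (Q : (ι → F) → F) (g : Cfsg.isometryGroup F Q) (v : ι → F) :
    opHom Q g v = ((g : GL ι F) : Matrix ι ι F) *ᵥ v := rfl

theorem opHom_injective (Q : (ι → F) → F) : Function.Injective (opHom Q) := by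
  intro g h hgh
  apply Subtype.ext
  apply Units.ext
  exact (Matrix.toLinAlgEquiv' (R := F) (n := ι)).injective hgh

theorem opHom_iso (Q : (ι → F) → F) (g : Cfsg.isometryGroup F Q) (v : ι → F) : Q (opHom Q g v) = Q v :=
  g.2 v v

theorem opHom_eq_one_iff (Q : (ι → F) → F) {g : Cfsg.isometryGroup F Q} : opHom Q g = 1 ↔ g = 1 := by
  rw [← map_one (opHom Q)]
  exact (opHom_injective Q).eq_iff

/-- **Lifting elements of odd order.** -/
theorem exists_lift (Q : QuadraticForm F (ι → F)) (hQ : (polarBilin Q).Nondegenerate) (hn : 3 ≤ Fintype.card ι)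
    (hs : ∃ u : ι → F, u ≠ 0 ∧ Q u = 0) {n : ℕ} (hodd : Odd n) {x : Cfsg.POmega F ⇑Q} (hx : orderOf x = n) :
    ∃ g : Cfsg.Omega F ⇑Q, (QuotientGroup.mk g : Cfsg.POmega F ⇑Q) = x ∧ orderOf g = n := by
  obtain ⟨b, rfl⟩ := QuotientGroup.mk_surjective x
  have h1 : b ^ n ∈ Subgroup.center (Cfsg.Omega F ⇑Q) := by
    rw [← QuotientGroup.eq_one_iff, QuotientGroup.mk_pow, ← hx]
    exact pow_orderOf_eq_one _
  have h2 : (b ^ n) ^ 2 = 1 := by
    apply omega_ext
    have e : omegaMat ((b ^ n) ^ 2) = omegaMat (b ^ n) ^ 2 := rfl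
    rw [e]
    have e1 : omegaMat (1 : Cfsg.Omega F ⇑Q) = 1 := rfl
    rcases (mem_center_omega_iff Q hQ hn hs _).1 h1 with h | h <;> rw [h, e1] <;> simp
  obtain ⟨k, hk⟩ := hodd
  have h3 : (QuotientGroup.mk (b ^ (n + 1)) : Cfsg.POmega F ⇑Q) = QuotientGroup.mk b := by
    rw [QuotientGroup.mk_pow, pow_succ]
    nth_rewrite 1 [← hx]
    rw [pow_orderOf_eq_one, one_mul]
  refine ⟨b ^ (n + 1), h3, ?_⟩
  apply Nat.dvd_antisymm
  · apply orderOf_dvd_of_pow_eq_one
    have h4 : n + 1 = 2 * (k + 1) := by omega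
    rw [← pow_mul, mul_comm, pow_mul, h4, pow_mul, h2, one_pow]
  · have h5 := orderOf_map_dvd (QuotientGroup.mk' (Subgroup.center (Cfsg.Omega F ⇑Q))) (b ^ (n + 1))
    rw [QuotientGroup.mk'_apply, h3, hx] at h5
    exact h5

end Cfsg.Agent.H420.Lift
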