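import Cfsg.Agent.H420.Lift
import Cfsg.Agent.H150.OrthProd
import Cfsg.Agent.S2474
import Cfsg.Agent.S2469
import Cfsg.Agent.LieClassical.OmegaReindex

/-!
# Non-adjacency in the prime graph of `PΩ⁺(2n,q)`, `PΩ⁻(2n,q)`, `q` odd (helper420)

`exists_odd` : an element of odd order `N` of `POmega F Q`, `Q` nondegenerate on `F ^ 2n`, gives an element of the same
order of `PΩ(2n+1,q)`; so (`S2474`, `S2469`) the non-adjacency criterion of `PSp(2n,q)` for two odd primes applies.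
-/

set_option autoImplicit false

namespace Cfsg.Agent.H420.QR

open Module
open Cfsg.Agent.LieClassical.OrthCount Cfsg.Agent.H150

/-- `η(l) = l` for odd `l`, `l / 2` for even `l` -/
def eta (l : ℕ) : ℕ := if Even l then l / 2 else l

theorem eta_spec (l : ℕ) : (Odd l ∧ eta l = l) ∨ (Even l ∧ 2 * eta l = l) := by
  unfold eta
  rcases Nat.even_or_odd l with h | h
  · right
    rw [if_pos h]
    exact ⟨h, Nat.two_mul_div_two_of_even h⟩
  · left
    rw [if_neg (Nat.not_even_iff_odd.2 h)]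
    exact ⟨h, rfl⟩

/-- the larger of `k`, `l` is an odd multiple of the smaller -/
def OddM (k l : ℕ) : Prop := ∃ t : ℕ, Odd t ∧ (l = k * t ∨ k = l * t)

theorem nd_sq {F : Type*} [Field F] (h2 : (2 : F) ≠ 0) : ND (QuadraticMap.sq (R := F)) := by
  intro x hx
  have h := hx 1
  rw [QuadraticMap.polar] at h
  simp only [QuadraticMap.sq_apply] at h
  have h1 : 2 * x = 0 := by linear_combination h
  exact (mul_eq_zero.1 h1).resolve_left h2

theorem exists_odd {F : Type*} [Field F] [Finite F] (h2 : (2 : F) ≠ 0) {ι : Type} [Fintype ι] [DecidableEq ι]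
    (Q : QuadraticForm F (ι → F)) (hQ : (QuadraticMap.polarBilin Q).Nondegenerate) {n : ℕ} (hn : 2 ≤ n)
    (hι : Fintype.card ι = 2 * n) (hs : ∃ u : ι → F, u ≠ 0 ∧ Q u = 0) {N : ℕ} (hN : Odd N)
    (x : POmega F ⇑Q) (hx : orderOf x = N) : ∃ g : POmega F (quadFormOdd n F), orderOf g = N := by
  obtain ⟨b, -, hb⟩ := Lift.exists_lift Q hQ (by omega) hs hN hx
  have hQ' : ND Q := fun x hx => hQ.1 x hx
  set a : OG Q := isometryGroupEquiv Q b.1 with ha
  have hoa : orderOf a = N := by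
    rw [ha, MulEquiv.orderOf_eq, Subgroup.orderOf_coe, hb]
  have hND := prod_nd Q (QuadraticMap.sq (R := F)) hQ' (nd_sq h2)
  have h1 : prodHom Q (QuadraticMap.sq (R := F)) (a, 1) ∈ commutator (OG (Q.prod (QuadraticMap.sq (R := F)))) := by
    refine odd_mem_commutator h2 _ hND ?_ _ hN ?_
    · rw [Module.finrank_prod, Module.finrank_fintype_fun_eq_card, Module.finrank_self, hι]
      omega
    · rw [← map_pow, Prod.pow_mk, one_pow, ← hoa, pow_orderOf_eq_one]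
      exact map_one _
  obtain ⟨g, hg⟩ := exists_pomega_of_prod h2 Q (QuadraticMap.sq (R := F)) hQ' (nd_sq h2) (n := n) (by omega)
    (by rw [Module.finrank_fintype_fun_eq_card, Module.finrank_self, hι]) a 1 h1
  exact ⟨g, by rw [hg, hoa, orderOf_one, Nat.lcm_one_right]⟩

theorem two_ne_zero_of_odd {F : Type*} [Field F] [Fintype F] (hq : Odd (Fintype.card F)) : (2 : F) ≠ 0 := by
  intro h
  have h3 : ringChar F = 2 := by
    have h4 : ringChar F ∣ 2 := (ringChar.spec F 2).1 (by exact_mod_cast h)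
    rcases (Nat.dvd_prime Nat.prime_two).1 h4 with h5 | h5
    · exact absurd h5 (CharP.ringChar_ne_one)
    · exact h5
  have h6 := (FiniteField.even_card_iff_char_two (F := F)).1 h3
  rw [Nat.odd_iff] at hq
  omega

/-- non-adjacency in `PSp(2n,q)`, symmetric form -/
theorem psp_nonadj {F : Type*} [Field F] [Fintype F] (hq : Odd (Fintype.card F)) {n : ℕ} (hn : 2 ≤ n) {r s : ℕ}
    (hr : r.Prime) (hs : s.Prime) (hr2 : r ≠ 2) (hs2 : s ≠ 2) (hrs : r ≠ s) (hrF : ¬ r ∣ Fintype.card F)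
    (hsF : ¬ s ∣ Fintype.card F)
    (h : n < eta (orderOf ((Fintype.card F : ℕ) : ZMod r)) + eta (orderOf ((Fintype.card F : ℕ) : ZMod s)))
    (ho : ¬ OddM (orderOf ((Fintype.card F : ℕ) : ZMod r)) (orderOf ((Fintype.card F : ℕ) : ZMod s))) :
    ¬ ∃ g : PSp n F, orderOf g = r * s := by
  rintro ⟨g, hg⟩
  obtain ⟨p, hp⟩ := CharP.exists F
  have hpp : Fact p.Prime := ⟨CharP.char_is_prime F p⟩
  have hpd : p ∣ Fintype.card F := by
    rw [← CharP.cast_eq_zero_iff F p]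
    exact FiniteField.cast_card_eq_zero F
  have hrp : r ≠ p := fun e => hrF (e ▸ hpd)
  have hsp : s ≠ p := fun e => hsF (e ▸ hpd)
  have h3 : n = 2 → 3 ≤ Fintype.card F := fun _ => by
    have h1 : 1 < Fintype.card F := Fintype.one_lt_card
    rcases hq with ⟨k, hk⟩
    omega
  have hrG : r ∣ Nat.card (PSp n F) := (Dvd.intro _ rfl).trans (hg ▸ orderOf_dvd_natCard g)
  have hsG : s ∣ Nat.card (PSp n F) := (Dvd.intro_left _ rfl).trans (hg ▸ orderOf_dvd_natCard g)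
  rcases le_total (eta (orderOf ((Fintype.card F : ℕ) : ZMod r))) (eta (orderOf ((Fintype.card F : ℕ) : ZMod s)))
    with hle | hle
  · refine (S2469.result (F := F) p n hn h3 r s hr hs hr2 hs2 hrp hsp hrs hrG hsG _ _ _ _ rfl rfl (eta_spec _)
      (eta_spec _) hle).2 ⟨h, ?_⟩ ⟨g, hg⟩
    rintro ⟨t, ht, hl⟩
    exact ho ⟨t, ht, Or.inl hl⟩
  · refine (S2469.result (F := F) p n hn h3 s r hs hr hs2 hr2 hsp hrp hrs.symm hsG hrG _ _ _ _ rfl rfl (eta_spec _)
      (eta_spec _) hle).2 ⟨by omega, ?_⟩ ⟨g, by rw [hg, mul_comm]⟩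
    rintro ⟨t, ht, hl⟩
    exact ho ⟨t, ht, Or.inr hl⟩

/-- **Non-adjacency in `PΩ(Q)`, `dim = 2n`, `q` odd.** -/
theorem pomega_nonadj {F : Type*} [Field F] [Fintype F] (hq : Odd (Fintype.card F)) {ι : Type} [Fintype ι]
    [DecidableEq ι] (Q : QuadraticForm F (ι → F)) (hQ : (QuadraticMap.polarBilin Q).Nondegenerate) {n : ℕ}
    (hn : 3 ≤ n) (hι : Fintype.card ι = 2 * n) (hu : ∃ u : ι → F, u ≠ 0 ∧ Q u = 0) {r s : ℕ}
    (hr : r.Prime) (hs : s.Prime) (hr2 : r ≠ 2) (hs2 : s ≠ 2) (hrs : r ≠ s) (hrF : ¬ r ∣ Fintype.card F)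
    (hsF : ¬ s ∣ Fintype.card F)
    (h : n < eta (orderOf ((Fintype.card F : ℕ) : ZMod r)) + eta (orderOf ((Fintype.card F : ℕ) : ZMod s)))
    (ho : ¬ OddM (orderOf ((Fintype.card F : ℕ) : ZMod r)) (orderOf ((Fintype.card F : ℕ) : ZMod s))) :
    ¬ ∃ g : POmega F ⇑Q, orderOf g = r * s := by
  rintro ⟨g, hg⟩
  have hodd : Odd (r * s) := Nat.odd_mul.2 ⟨hr.odd_of_ne_two hr2, hs.odd_of_ne_two hs2⟩
  obtain ⟨g', hg'⟩ := exists_odd (two_ne_zero_of_odd hq) Q hQ (n := n) (by omega) hι hu hodd g hg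
  have h1 := (S2474.result (F := F) hq n hn r s hr hs hrs).1 ⟨g', hg'⟩
  exact psp_nonadj hq (by omega) hr hs hr2 hs2 hrs hrF hsF h ho h1

/-- **Non-adjacency in `PΩ⁺(2n,q)`, `q` odd.** -/
theorem plus_nonadj {F : Type*} [Field F] [Fintype F] (hq : Odd (Fintype.card F)) {n : ℕ} (hn : 3 ≤ n) {r s : ℕ}
    (hr : r.Prime) (hs : s.Prime) (hr2 : r ≠ 2) (hs2 : s ≠ 2) (hrs : r ≠ s) (hrF : ¬ r ∣ Fintype.card F)
    (hsF : ¬ s ∣ Fintype.card F)
    (h : n < eta (orderOf ((Fintype.card F : ℕ) : ZMod r)) + eta (orderOf ((Fintype.card F : ℕ) : ZMod s)))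
    (ho : ¬ OddM (orderOf ((Fintype.card F : ℕ) : ZMod r)) (orderOf ((Fintype.card F : ℕ) : ZMod s))) :
    ¬ ∃ g : POmega F (quadFormPlus n F), orderOf g = r * s := by
  rw [← LieClassical.OmegaReindex.coe_quadPlus]
  exact pomega_nonadj hq _ LieClassical.OmegaReindex.quadPlus_nondegenerate hn (by simp; ring)
    (LieClassical.OmegaReindex.quadPlus_isotropic (by omega)) hr hs hr2 hs2 hrs hrF hsF h ho

/-- **Non-adjacency in `PΩ⁻(2n,q)`, `q` odd.** -/
theorem minus_nonadj {F : Type*} [Field F] [Fintype F] (hq : Odd (Fintype.card F)) {n : ℕ} (hn : 3 ≤ n) {a b : F}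
    (hab : ∀ z₁ z₂ : F, z₁ ^ 2 + a * z₁ * z₂ + b * z₂ ^ 2 = 0 → z₁ = 0 ∧ z₂ = 0) {r s : ℕ}
    (hr : r.Prime) (hs : s.Prime) (hr2 : r ≠ 2) (hs2 : s ≠ 2) (hrs : r ≠ s) (hrF : ¬ r ∣ Fintype.card F)
    (hsF : ¬ s ∣ Fintype.card F)
    (h : n < eta (orderOf ((Fintype.card F : ℕ) : ZMod r)) + eta (orderOf ((Fintype.card F : ℕ) : ZMod s)))
    (ho : ¬ OddM (orderOf ((Fintype.card F : ℕ) : ZMod r)) (orderOf ((Fintype.card F : ℕ) : ZMod s))) :
    ¬ ∃ g : POmega F (quadFormMinus (n - 1) F a b), orderOf g = r * s := by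
  rw [← LieClassical.OmegaReindex.coe_quadMinus]
  exact pomega_nonadj hq _ (LieClassical.OmegaReindex.quadMinus_nondegenerate hab) hn (by simp; omega)
    (LieClassical.OmegaReindex.quadMinus_isotropic (by omega) a b) hr hs hr2 hs2 hrs hrF hsF h ho

end Cfsg.Agent.H420.QR
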