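import Cfsg.Agent.H420.CrossFam
import Cfsg.Agent.H436.Names

/-!
# Cross characteristic elimination: ranks of the classical groups (helper420)

* `psl_two_card_le` : a coclique of primes `> 3` of `PSL_2(q)` has at most three members;
* `WC.small` : small ranks of the symplectic and orthogonal groups;
* `rank_psl`, ..., `rank_minus` : if there is a coclique of six primes `> 3` the rank is large;
* `cross_classical` : a classical group `S` with `SHyp PΩ⁺_{2n}(3) S` has characteristic three.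
-/

set_option autoImplicit false

namespace Cfsg.Agent.H420.QR

open Cfsg Cfsg.Agent.H436 Cfsg.Agent.OrdDiv Cfsg.Agent.H72

universe u v

/-! ### `PSL_2(q)` -/

section PSL2

variable {F : Type*} [Field F] [Fintype F]

theorem psl_two_order {N : ℕ} (h : AdjPSL.HasBlock F 2 N) (hN : Odd N) :
    ∃ z : Matrix.ProjectiveSpecialLinearGroup (Fin 2) F, orderOf z = N := by
  obtain ⟨A, hAd, hA1, hA2⟩ := h
  refine AdjPSL.exists_order A hAd ?_ N dvd_rfl
  intro k c hk
  have h1 : c ^ N = 1 := AdjPSU.pow_eq_one_of_scalar (by norm_num) hA1 hk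
  have h2 : c ^ 2 = 1 := by
    have h3 := congrArg Matrix.det hk
    rw [Matrix.det_pow, hAd, one_pow, Matrix.det_smul, Matrix.det_one, mul_one, Fintype.card_fin] at h3
    exact h3.symm
  have h4 : c = 1 := by
    have h5 : orderOf c ∣ Nat.gcd 2 N := Nat.dvd_gcd (orderOf_dvd_of_pow_eq_one h2) (orderOf_dvd_of_pow_eq_one h1)
    rw [(Nat.coprime_two_left.2 hN : Nat.gcd 2 N = 1), Nat.dvd_one] at h5
    exact orderOf_eq_one_iff.1 h5
  rw [h4, one_smul] at hk
  exact hA2 _ hk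

theorem psl_two_card_le {ρ : Finset ℕ} (hρ : IsCoq (Matrix.ProjectiveSpecialLinearGroup (Fin 2) F) ρ)
    (h3 : ∀ r ∈ ρ, 3 < r) : ρ.card ≤ 3 := by
  classical
  have hq := Fintype.one_lt_card (α := F)
  obtain ⟨p, -, -, hp⟩ := AdjCoc.prime_dvd_card F
  let f : ℕ → ℕ := fun s => if s ∣ Fintype.card F then 0 else AdjOrth.ee (Fintype.card F) s
  have hle : ∀ s ∈ ρ, f s ∈ Finset.range 3 := by
    intro s hs
    rw [Finset.mem_range]
    simp only [f]
    split_ifs with h
    · omega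
    · exact Nat.lt_succ_of_le (AdjPSL.ee_le (hρ.prime s hs) h (hρ.dvd s hs))
  refine (Finset.card_le_card_of_injOn f hle ?_).trans (by rw [Finset.card_range])
  intro r hr s hs hrs
  by_contra hne
  have hr1 := hρ.prime r hr
  have hs1 := hρ.prime s hs
  have hr3 := h3 r hr
  have hs3 := h3 s hs
  have hco : Nat.Coprime r s := (Nat.coprime_primes hr1 hs1).2 hne
  have hodd : Odd (r * s) := Nat.odd_mul.2 ⟨hr1.odd_of_ne_two (by omega), hs1.odd_of_ne_two (by omega)⟩
  simp only [f] at hrs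
  split_ifs at hrs with h1 h2 h2
  · rw [← Nat.card_eq_fintype_card] at h1 h2
    exact hne ((hp r hr1 h1).trans (hp s hs1 h2).symm)
  · have := AdjOrth.ee_pos hs1 h2
    omega
  · have := AdjOrth.ee_pos hr1 h1
    omega
  · have h4 := AdjPSL.ee_le hr1 h1 (hρ.dvd r hr)
    have h5 := AdjOrth.ee_pos hr1 h1
    have h6 := AdjOrth.dvd_pow_ee (q := Fintype.card F) (r := r) (by omega)
    have h7 := AdjOrth.dvd_pow_ee (q := Fintype.card F) (r := s) (by omega)
    rw [← hrs] at h7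
    refine hρ.nadj r hr s hs hne ?_
    have h8 : AdjOrth.ee (Fintype.card F) r = 1 ∨ AdjOrth.ee (Fintype.card F) r = 2 := by omega
    rcases h8 with h8 | h8
    · rw [h8, pow_one] at h6 h7
      exact psl_two_order (AdjPSL.hasBlock_two (hco.mul_dvd_of_dvd_of_dvd h6 h7)) hodd
    · have h9 : ¬ r ∣ Fintype.card F - 1 := fun h9 => by
        have := (AdjPSL.ee_eq_one_iff (by omega)).2 h9
        omega
      have h10 : ¬ s ∣ Fintype.card F - 1 := fun h9 => by
        have := (AdjPSL.ee_eq_one_iff (by omega)).2 h9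
        omega
      rw [h8] at h6 h7
      exact psl_two_order (AdjPSL.hasBlock_singer (by norm_num) (hco.mul_dvd_of_dvd_of_dvd h6 h7)
        (Nat.Coprime.mul_left ((Nat.Prime.coprime_iff_not_dvd hr1).2 h9)
          ((Nat.Prime.coprime_iff_not_dvd hs1).2 h10))) hodd

end PSL2

/-! ### small ranks -/

theorem eta_eq_two {k : ℕ} (h : AdjOrth.eta k = 2) : k = 4 := by
  rw [AdjOrth.eta] at h
  split_ifs at h with h1
  · obtain ⟨j, hj⟩ := h1
    omega
  · exact absurd (h ▸ even_two) h1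

theorem WC.small {S : Type u} [Group S] {m c q p : ℕ} {N : ℕ → ℕ} (h : WC S m c (AdjOrth.wO q) (AdjOrth.ee q) N)
    (hp : ∀ s : ℕ, s.Prime → s ∣ q → s = p)
    (h4 : ∀ r s : ℕ, r.Prime → s.Prime → 3 < r → 3 < s → r ≠ s → r ∣ Nat.card S → ¬ r ∣ q → ¬ s ∣ q →
      AdjOrth.ee q r = AdjOrth.ee q s → ∃ g : S, orderOf g = r * s)
    (hm : 3 + c ≤ m) {ρ : Finset ℕ} (hρ : IsCoq S ρ) (h3 : ∀ r ∈ ρ, 3 < r) : ρ.card ≤ 2 + N 2 := by
  classical
  have h1 := Finset.card_filter_add_card_filter_not (s := ρ) (fun r => AdjOrth.wO q r ≤ 2)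
  have h2 : (ρ.filter fun r => ¬ AdjOrth.wO q r ≤ 2).card ≤ N 2 := by
    refine h.card_le (hρ.subset (Finset.filter_subset _ _)) (fun r hr => h3 r (Finset.mem_filter.1 hr).1) le_rfl ?_
    intro r hr
    have := (Finset.mem_filter.1 hr).2
    omega
  have h5 : (ρ.filter fun r => AdjOrth.wO q r ≤ 2).card ≤ 2 := by
    by_cases hex : ∃ a ∈ ρ.filter (fun r => AdjOrth.wO q r ≤ 2), AdjOrth.wO q a ≤ 1
    · obtain ⟨a, ha, ha1⟩ := hex
      refine le_trans ?_ one_le_two
      rw [Finset.card_le_one_iff_subset_singleton]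
      refine ⟨a, fun b hb => ?_⟩
      rw [Finset.mem_singleton]
      by_contra hne
      rw [Finset.mem_filter] at ha hb
      exact hρ.nadj b hb.1 a ha.1 hne (h.adj b a (hρ.prime b hb.1) (hρ.prime a ha.1) hne (by omega))
    · push Not at hex
      have hkey : ∀ s ∈ ρ.filter (fun r => AdjOrth.wO q r ≤ 2), s ∣ q ∨ (¬ s ∣ q ∧ AdjOrth.ee q s = 4) := by
        intro s hs
        have h6 := hex s hs
        rw [Finset.mem_filter] at hs
        by_cases hsq : s ∣ q
        · exact Or.inl hsq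
        · right
          refine ⟨hsq, eta_eq_two ?_⟩
          have h7 : AdjOrth.wO q s = AdjOrth.eta (AdjOrth.ee q s) := by
            rw [AdjOrth.wO, if_neg]
            rintro (h8 | h8)
            · have := h3 s hs.1
              omega
            · exact hsq h8
          omega
      refine (Finset.card_le_card_of_injOn (fun s => if s ∣ q then 0 else 1) (t := Finset.range 2) ?_ ?_).trans
        (by rw [Finset.card_range])
      · intro s _
        rw [Finset.mem_coe, Finset.mem_range]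
        dsimp only
        split_ifs <;> omega
      · intro r hr s hs hrs
        by_contra hne
        have hr' := Finset.mem_filter.1 hr
        have hs' := Finset.mem_filter.1 hs
        rcases hkey r hr with h6 | ⟨h6, h7⟩ <;> rcases hkey s hs with h8 | ⟨h8, h9⟩
        · exact hne ((hp r (hρ.prime r hr'.1) h6).trans (hp s (hρ.prime s hs'.1) h8).symm)
        · dsimp only at hrs
          rw [if_pos h6, if_neg h8] at hrs
          omega
        · dsimp only at hrs
          rw [if_neg h6, if_pos h8] at hrs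
          omega
        · exact hρ.nadj r hr'.1 s hs'.1 hne (h4 r s (hρ.prime r hr'.1) (hρ.prime s hs'.1) (h3 r hr'.1) (h3 s hs'.1)
            hne (hρ.dvd r hr'.1) h6 h8 (h7.trans h9.symm))
  omega

/-! ### ranks -/

section rank

variable {S : Type u} [Group S] {F : Type*} [Field F] [Fintype F] {m : ℕ} {ρ : Finset ℕ}

theorem rank_psl (hm : 2 ≤ m) (e : S ≃* Matrix.ProjectiveSpecialLinearGroup (Fin m) F) (hρ : IsCoq S ρ)
    (h3 : ∀ r ∈ ρ, 3 < r) (h6 : 6 ≤ ρ.card) : 9 ≤ m := by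
  have h1 := hρ.congr e
  by_cases h4 : 4 ≤ m
  · have := (wc_psl (F := F) (n := m) (by omega)).half h1 h3 h4
    omega
  · have h2 : m = 2 ∨ m = 3 := by omega
    rcases h2 with rfl | rfl
    · have := psl_two_card_le h1 h3
      omega
    · obtain ⟨x, hx⟩ : ρ.Nonempty := Finset.card_pos.1 (by omega)
      have := (AdjPSL.card_coclique (F := F) (n := 3) le_rfl (fun r hr => ⟨h1.prime r hr, h1.dvd r hr⟩) h1.nadj hx).1
      omega

theorem rank_psu {q : ℕ} (hF : Fintype.card F = q ^ 2) (hm : 3 ≤ m) (e : S ≃* PSU m F q) (hρ : IsCoq S ρ)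
    (h3 : ∀ r ∈ ρ, 3 < r) (h6 : 6 ≤ ρ.card) : 9 ≤ m := by
  have h1 := hρ.congr e
  by_cases h4 : 4 ≤ m
  · have := (wc_psu hF (n := m) (by omega)).half h1 h3 h4
    omega
  · obtain rfl : m = 3 := by omega
    obtain ⟨x, hx⟩ : ρ.Nonempty := Finset.card_pos.1 (by omega)
    have := (AdjPSU.card_coclique hF (n := 3) le_rfl (fun r hr => ⟨h1.prime r hr, h1.dvd r hr⟩) h1.nadj hx).1
    omega

theorem rank_sp (hm : 2 ≤ m) (e : S ≃* PSp m F) (hρ : IsCoq S ρ)
    (h3 : ∀ r ∈ ρ, 3 < r) (h6 : 6 ≤ ρ.card) : 5 ≤ m := by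
  have h1 := hρ.congr e
  obtain ⟨p, -, -, hp⟩ := AdjCoc.prime_dvd_card F
  by_cases h4 : 4 ≤ m
  · have := (wc_sp (F := F) (n := m) (by omega)).half h1 h3 h4
    omega
  · have h2 : m = 2 ∨ m = 3 := by omega
    rcases h2 with rfl | rfl
    · have := AdjCoc.sp_coclique' (F := F) (m := 2) le_rfl (fun r hr => ⟨h1.prime r hr, h1.dvd r hr⟩) h1.nadj
      omega
    · have := (wc_sp (F := F) (n := 3) (by omega)).small hp (fun r s hr hs h3 h4 hrs hd hrq hsq he =>
        AdjSp.sp_clq (by omega) hr hs (by omega) (by omega) hrs hrq hsq he (AdjCoc.sp_class hr hrq hd)) (by omega) h1 h3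
      omega

theorem rank_odd (h2 : (2 : F) ≠ 0) (hm : 3 ≤ m) (e : S ≃* POmega F (quadFormOdd m F)) (hρ : IsCoq S ρ)
    (h3 : ∀ r ∈ ρ, 3 < r) (h6 : 6 ≤ ρ.card) : 5 ≤ m := by
  have h1 := hρ.congr e
  obtain ⟨p, -, -, hp⟩ := AdjCoc.prime_dvd_card F
  by_cases h4 : 4 ≤ m
  · have := (wc_odd (F := F) h2 hm).half h1 h3 h4
    omega
  · obtain rfl : m = 3 := by omega
    have := (wc_odd (F := F) h2 hm).small hp (fun r s hr hs h3 h4 hrs hd hrq hsq he =>
      AdjOrth.odd_clq h2 hm hr hs (by omega) (by omega) hrs hrq hsq he (AdjCoc.odd_class h2 hm hr hrq hd)) (by omega)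
      h1 h3
    omega

theorem rank_plus (hm : 4 ≤ m) (e : S ≃* POmega F (quadFormPlus m F)) (hρ : IsCoq S ρ)
    (h3 : ∀ r ∈ ρ, 3 < r) (h6 : 6 ≤ ρ.card) : 6 ≤ m := by
  have h1 := hρ.congr e
  obtain ⟨p, -, -, hp⟩ := AdjCoc.prime_dvd_card F
  by_cases h4 : 5 ≤ m
  · have := (wc_plus (F := F) hm).half h1 h3 h4
    omega
  · obtain rfl : m = 4 := by omega
    have := (wc_plus (F := F) hm).small hp (fun r s hr hs h3 h4 hrs hd hrq hsq he =>
      AdjOrth.plus_clq hm hr hs (by omega) (by omega) hrs hrq hsq he (AdjCoc.plus_class hm hr hrq hd)) (by omega)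
      h1 h3
    omega

theorem rank_minus (hm : 4 ≤ m) {a b : F} (hab : ∀ z₁ z₂ : F, z₁ ^ 2 + a * z₁ * z₂ + b * z₂ ^ 2 = 0 → z₁ = 0 ∧ z₂ = 0)
    (e : S ≃* POmega F (quadFormMinus (m - 1) F a b)) (hρ : IsCoq S ρ)
    (h3 : ∀ r ∈ ρ, 3 < r) (h6 : 6 ≤ ρ.card) : 6 ≤ m := by
  have h1 := hρ.congr e
  obtain ⟨p, -, -, hp⟩ := AdjCoc.prime_dvd_card F
  by_cases h4 : 5 ≤ m
  · have := (wc_minus (F := F) hm hab).half h1 h3 h4
    omega
  · obtain rfl : m = 4 := by omega
    have := (wc_minus (F := F) hm hab).small hp (fun r s hr hs h3 h4 hrs hd hrq hsq he =>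
      AdjOrth.minus_clq hm hab hr hs (by omega) (by omega) hrs hrq hsq he
        (AdjCoc.minus_class hm hab hr (by omega) hrq hd)) (by omega) h1 h3
    omega

end rank

/-! ### the order and the prime divisors of `r₀ ^ 10 - 1` -/

theorem dvd_prB {q m i x : ℕ} (hi : i < m) (h : x ∣ q ^ (2 * (i + 1)) - 1) : x ∣ prB q m := by
  unfold prB
  rw [prod_list]
  exact h.trans (Finset.dvd_prod_of_mem _ (Finset.mem_range.2 hi))

theorem not_dvd_gcd_two {x k : ℕ} (h3 : 3 < x) : ¬ x ∣ Nat.gcd 2 k := fun h => by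
  have := Nat.le_of_dvd (by norm_num) (h.trans (Nat.gcd_dvd_left _ _))
  omega

theorem not_dvd_gcd_four {x k : ℕ} (hx : x.Prime) (h3 : 3 < x) : ¬ x ∣ Nat.gcd 4 k := fun h => by
  have h1 : x ∣ 2 ^ 2 := h.trans (Nat.gcd_dvd_left _ _)
  have := Nat.le_of_dvd (by norm_num) (hx.dvd_of_dvd_pow h1)
  omega

end Cfsg.Agent.H420.QR
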