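import Cfsg.Agent.H420.Reduce
import Cfsg.Agent.H420.LOrth
import Cfsg.Agent.H425.ChrBase
import Cfsg.Agent.H72.AdjOrth

/-!
# The prime graph of `PΩ⁺_{2n}(3)`: classes of primes and cocliques (helper420)

* `Okc n k` : the classes of the primes of the order; `dvd_L_iff`;
* `Far n k l` : two primes of the classes `k` and `l` are not adjacent;
* `SHyp.coq0`, `SHyp.coqx`, `SHyp.two_cls` : cocliques of `S`;
* `TT n`, `TK n K` : a coclique of classes and its part far from the class `K`; lower bounds;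
* `Test S x b` : `x ∣ |S|` and the cocliques of `S` through `x` have at most `b` members; `SHyp.no_test`.
-/

set_option autoImplicit false

namespace Cfsg.Agent.H420.QR

open Cfsg Cfsg.Agent.H436 Cfsg.Agent.OrdDiv Cfsg.Agent.H72

universe u v

/-! ### classes -/

theorem prim_ee {q r : ℕ} (hq : 1 ≤ q) (hr : r.Prime) (h : ¬ r ∣ q) : Prim q (AdjOrth.ee q r) r := by
  refine ⟨hr, fun m => ?_, h⟩
  rw [AdjOrth.ee, orderOf_dvd_iff_pow_eq_one, ← ZMod.natCast_eq_zero_iff, Nat.cast_sub (Nat.one_le_pow _ _ hq),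
    Nat.cast_pow, Nat.cast_one, sub_eq_zero]

theorem ee_eq_of_prim {q e r : ℕ} (hq : 1 ≤ q) (h : Prim q e r) : AdjOrth.ee q r = e :=
  (prim_ee hq h.prime h.not_dvd).unique h

/-- the class of a prime over three -/
noncomputable abbrev e3 (r : ℕ) : ℕ := AdjOrth.ee 3 r

theorem not_dvd_three {r : ℕ} (h : 3 < r) : ¬ r ∣ 3 := fun hd => by
  have := Nat.le_of_dvd (by norm_num) hd
  omega

theorem three_le_e3 {r : ℕ} (hr : r.Prime) (h : 3 < r) : 3 ≤ e3 r := by
  have h1 := prim_ee (q := 3) (by norm_num) hr (not_dvd_three h)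
  have h0 : 1 ≤ e3 r := AdjOrth.ee_pos hr (not_dvd_three h)
  by_contra hlt
  have h2 : e3 r = 1 ∨ e3 r = 2 := by omega
  have h3 : r ∣ 3 ^ 2 - 1 := by
    refine h1.dvd ?_
    change e3 r ∣ 2
    rcases h2 with h2 | h2
    · rw [h2]
      exact one_dvd _
    · rw [h2]
  have h4 : r ∣ 2 ^ 3 := by simpa using h3
  have h5 := Nat.le_of_dvd (by norm_num) (hr.dvd_of_dvd_pow h4)
  omega

theorem exists_e3 {l : ℕ} (hl : 3 ≤ l) : ∃ r : ℕ, r.Prime ∧ 3 < r ∧ e3 r = l := by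
  obtain ⟨r, hr⟩ := exists_prim (q := 3) (by norm_num) hl (by omega)
  have h1 := ee_eq_of_prim (by norm_num) hr
  refine ⟨r, hr.prime, ?_, h1⟩
  have h2 := hr.prime.two_le
  by_contra hlt
  have h3 : r = 2 ∨ r = 3 := by omega
  rcases h3 with rfl | rfl
  · have h4 : (2 : ℕ) ∣ 3 ^ 1 - 1 := by norm_num
    have := Nat.le_of_dvd one_pos ((hr.dvd_iff 1).1 h4)
    omega
  · exact hr.not_dvd dvd_rfl

/-- the classes of the primes of `|PΩ⁺_{2n}(3)|` -/
def Okc (n k : ℕ) : Prop := (k % 2 = 1 ∧ k ≤ n) ∨ (k % 2 = 0 ∧ k ≤ 2 * (n - 1))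

instance decOkc (n k : ℕ) : Decidable (Okc n k) := by unfold Okc; infer_instance

/-- an odd quotient, decidable -/
def OddD (k l : ℕ) : Prop := (l % k = 0 ∧ (l / k) % 2 = 1) ∨ (k % l = 0 ∧ (k / l) % 2 = 1)

instance decOddD (k l : ℕ) : Decidable (OddD k l) := by unfold OddD; infer_instance

theorem OddM.oddD {k l : ℕ} (hk : 0 < k) (hl : 0 < l) (h : OddM k l) : OddD k l := by
  obtain ⟨t, ht, rfl | rfl⟩ := h
  · left
    exact ⟨Nat.mul_mod_right k t, by rw [Nat.mul_div_cancel_left _ hk]; exact Nat.odd_iff.1 ht⟩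
  · right
    exact ⟨Nat.mul_mod_right l t, by rw [Nat.mul_div_cancel_left _ hl]; exact Nat.odd_iff.1 ht⟩

/-- two primes of the classes `k` and `l` are not adjacent -/
def Far (n k l : ℕ) : Prop := n < eta k + eta l ∧ ¬ OddD k l

instance decFar (n k l : ℕ) : Decidable (Far n k l) := by unfold Far; infer_instance

theorem Far.symm {n k l : ℕ} (h : Far n k l) : Far n l k :=
  ⟨by have := h.1; omega, fun h1 => h.2 (Or.symm h1)⟩

section L

variable {F : Type v} [Field F] [Fintype F] {n : ℕ}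

theorem dvd_L_iff (hF : Fintype.card F = 3) (hn : 4 ≤ n) {r : ℕ} (hr : r.Prime) (h3 : 3 < r) :
    r ∣ Nat.card (POmega F (quadFormPlus n F)) ↔ Okc n (e3 r) := by
  have h := S0293.result (F := F) rfl n hn
  rw [← prod_list (fun i => Fintype.card F ^ (2 * (i + 1)) - 1), hF] at h
  have h1 : den (.oplus n 3) * Nat.card (POmega F (quadFormPlus n F)) = num (.oplus n 3) := by
    change Nat.gcd 4 (3 ^ n - 1) * _ = 3 ^ (n * (n - 1)) * ((3 ^ n - 1) * prB 3 (n - 1))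
    rw [← mul_assoc (3 ^ (n * (n - 1)))]
    exact h
  have hd := three_le_e3 hr h3
  rw [H425.Chr.dvd_iff (q := 3) (by norm_num) hd (prim_ee (by norm_num) hr (not_dvd_three h3)) (g := .oplus n 3) rfl h1]
  generalize e3 r = d at hd
  change (d ∣ n ∨ ∃ k, 1 ≤ k ∧ k ≤ n - 1 ∧ d ∣ 2 * k) ↔ _
  constructor
  · rintro (h2 | ⟨k, hk, hkn, h2⟩)
    · have := Nat.le_of_dvd (by omega) h2
      unfold Okc
      omega
    · have h4 := Nat.le_of_dvd (by omega) h2
      rcases Nat.mod_two_eq_zero_or_one d with h5 | h5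
      · right
        omega
      · left
        have h6 : Nat.Coprime d 2 := Nat.coprime_two_right.2 (Nat.odd_iff.2 h5)
        have := Nat.le_of_dvd (by omega) (h6.dvd_of_dvd_mul_left h2)
        omega
  · rintro (⟨h4, h5⟩ | ⟨h4, h5⟩)
    · rcases Nat.eq_or_lt_of_le h5 with h6 | h6
      · exact Or.inl (h6 ▸ dvd_rfl)
      · exact Or.inr ⟨d, by omega, by omega, Dvd.intro_left _ rfl⟩
    · exact Or.inr ⟨d / 2, by omega, by omega, by rw [Nat.mul_div_cancel' (Nat.dvd_of_mod_eq_zero h4)]⟩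

theorem nonadj_of_far (hF : Fintype.card F = 3) (hn : 4 ≤ n) {r s : ℕ} (hr : r.Prime) (hs : s.Prime) (h3 : 3 < r)
    (h4 : 3 < s) (hrs : r ≠ s) (h : Far n (e3 r) (e3 s)) : ¬ ∃ g : POmega F (quadFormPlus n F), orderOf g = r * s := by
  have hr3 := three_le_e3 hr h3
  have hs3 := three_le_e3 hs h4
  refine plus_nonadj (hF ▸ by decide) (by omega) hr hs (by omega) (by omega) hrs (hF ▸ not_dvd_three h3)
    (hF ▸ not_dvd_three h4) ?_ ?_
  · rw [hF]
    exact h.1
  · rw [hF]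
    exact fun ho => h.2 (ho.oddD (by change 0 < e3 r; omega) (by change 0 < e3 s; omega))

/-- primes chosen in pairwise far classes form a coclique -/
theorem isCoq_image (hF : Fintype.card F = 3) (hn : 4 ≤ n) (C : Finset ℕ) (f : ℕ → ℕ)
    (hf : ∀ l ∈ C, (f l).Prime ∧ 3 < f l ∧ e3 (f l) = l) (hok : ∀ l ∈ C, Okc n l)
    (hfar : ∀ k ∈ C, ∀ l ∈ C, k ≠ l → Far n k l) :
    IsCoq (POmega F (quadFormPlus n F)) (C.image f) ∧ (C.image f).card = C.card := by
  refine ⟨⟨?_, ?_, ?_⟩, ?_⟩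
  · intro r hr
    obtain ⟨l, hl, rfl⟩ := Finset.mem_image.1 hr
    exact (hf l hl).1
  · intro r hr
    obtain ⟨l, hl, rfl⟩ := Finset.mem_image.1 hr
    rw [dvd_L_iff hF hn (hf l hl).1 (hf l hl).2.1, (hf l hl).2.2]
    exact hok l hl
  · intro r hr s hs hrs
    obtain ⟨k, hk, rfl⟩ := Finset.mem_image.1 hr
    obtain ⟨l, hl, rfl⟩ := Finset.mem_image.1 hs
    refine nonadj_of_far hF hn (hf k hk).1 (hf l hl).1 (hf k hk).2.1 (hf l hl).2.1 hrs ?_
    rw [(hf k hk).2.2, (hf l hl).2.2]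
    exact hfar k hk l hl fun e => hrs (e ▸ rfl)
  · refine Finset.card_image_of_injOn fun k hk l hl hkl => ?_
    rw [← (hf k hk).2.2, ← (hf l hl).2.2]
    exact congrArg e3 hkl

variable {S : Type u} [Group S]

theorem SHyp.okc (h : SHyp (POmega F (quadFormPlus n F)) S) (hF : Fintype.card F = 3) (hn : 4 ≤ n) {r : ℕ}
    (hr : r.Prime) (h3 : 3 < r) (hd : r ∣ Nat.card S) : Okc n (e3 r) :=
  (dvd_L_iff hF hn hr h3).1 (h.pi r hr hd)

/-- a coclique of `S` from pairwise far classes -/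
theorem SHyp.coq0 (h : SHyp (POmega F (quadFormPlus n F)) S) (hF : Fintype.card F = 3) (hn : 4 ≤ n) (C : Finset ℕ)
    (hC : ∀ l ∈ C, 3 ≤ l) (hok : ∀ l ∈ C, Okc n l) (hfar : ∀ k ∈ C, ∀ l ∈ C, k ≠ l → Far n k l) (h3 : 3 ≤ C.card) :
    ∃ ρ : Finset ℕ, IsCoq S ρ ∧ (∀ r ∈ ρ, 3 < r) ∧ C.card ≤ ρ.card + 1 := by
  have hex : ∀ l ∈ C, ∃ r : ℕ, r.Prime ∧ 3 < r ∧ e3 r = l := fun l hl => exists_e3 (hC l hl)
  choose! f hf using hex
  obtain ⟨h1, h2⟩ := isCoq_image hF hn C f hf hok hfar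
  obtain ⟨h4, h5⟩ := h.filter h1 (h2 ▸ h3)
  refine ⟨_, h4, ?_, h2 ▸ h5⟩
  intro r hr
  obtain ⟨l, hl, rfl⟩ := Finset.mem_image.1 (Finset.mem_filter.1 hr).1
  exact (hf l hl).2.1

/-- a coclique of `S` through `x` -/
theorem SHyp.coqx (h : SHyp (POmega F (quadFormPlus n F)) S) (hF : Fintype.card F = 3) (hn : 4 ≤ n) {x : ℕ}
    (hx : x.Prime) (hx3 : 3 < x) (hxS : x ∣ Nat.card S) (C : Finset ℕ)
    (hC : ∀ l ∈ C, 3 ≤ l) (hok : ∀ l ∈ C, Okc n l) (hfar : ∀ k ∈ C, ∀ l ∈ C, k ≠ l → Far n k l)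
    (hxC : ∀ l ∈ C, Far n (e3 x) l) (h2 : 2 ≤ C.card) :
    ∃ ρ : Finset ℕ, IsCoq S ρ ∧ (∀ r ∈ ρ, 3 < r) ∧ x ∈ ρ ∧ C.card ≤ ρ.card := by
  classical
  have hex : ∀ l ∈ C, ∃ r : ℕ, r.Prime ∧ 3 < r ∧ e3 r = l := fun l hl => exists_e3 (hC l hl)
  choose! f hf using hex
  have h0 := three_le_e3 hx hx3
  have hxn : e3 x ∉ C := fun hm => (hxC _ hm).2 (Or.inl ⟨Nat.mod_self _, by rw [Nat.div_self (by omega)]⟩)
  have hne : ∀ l ∈ C, l ≠ e3 x := fun l hl e => hxn (e ▸ hl)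
  have hf' : ∀ l ∈ insert (e3 x) C, ((fun l => if l = e3 x then x else f l) l).Prime ∧
      3 < (fun l => if l = e3 x then x else f l) l ∧ e3 ((fun l => if l = e3 x then x else f l) l) = l := by
    intro l hl
    dsimp only
    split_ifs with hlx
    · exact ⟨hx, hx3, hlx.symm⟩
    · exact hf l ((Finset.mem_insert.1 hl).resolve_left hlx)
  obtain ⟨h1, h3⟩ := isCoq_image hF hn (insert (e3 x) C) (fun l => if l = e3 x then x else f l) hf' (by
      intro l hl
      rcases Finset.mem_insert.1 hl with rfl | hl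
      · exact h.okc hF hn hx hx3 hxS
      · exact hok l hl) (by
      intro k hk l hl hkl
      rcases Finset.mem_insert.1 hk with rfl | hk <;> rcases Finset.mem_insert.1 hl with rfl | hl
      · exact absurd rfl hkl
      · exact hxC l hl
      · exact (hxC k hk).symm
      · exact hfar k hk l hl hkl)
  rw [Finset.card_insert_of_notMem hxn] at h3
  obtain ⟨h4, h5⟩ := h.filter h1 (by omega)
  refine ⟨_, h4, ?_, ?_, by omega⟩
  · intro r hr
    obtain ⟨l, hl, rfl⟩ := Finset.mem_image.1 (Finset.mem_filter.1 hr).1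
    exact (hf' l hl).2.1
  · rw [Finset.mem_filter, Finset.mem_image]
    exact ⟨⟨e3 x, Finset.mem_insert_self _ _, if_pos rfl⟩, hxS⟩

/-- at most one class of a coclique is missing in `S` -/
theorem SHyp.two_cls (h : SHyp (POmega F (quadFormPlus n F)) S) (hF : Fintype.card F = 3) (hn : 4 ≤ n)
    (C : Finset ℕ) (hC : ∀ l ∈ C, 3 ≤ l) (hok : ∀ l ∈ C, Okc n l) (hfar : ∀ k ∈ C, ∀ l ∈ C, k ≠ l → Far n k l)
    (h3 : 3 ≤ C.card) {r s : ℕ} (hr : r.Prime) (hs : s.Prime) (hr3 : 3 < r) (hs3 : 3 < s) (hrC : e3 r ∈ C)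
    (hsC : e3 s ∈ C) (hne : e3 r ≠ e3 s) : r ∣ Nat.card S ∨ s ∣ Nat.card S := by
  classical
  have hex : ∀ l ∈ C, ∃ r : ℕ, r.Prime ∧ 3 < r ∧ e3 r = l := fun l hl => exists_e3 (hC l hl)
  choose! f hf using hex
  have hf' : ∀ l ∈ C, ((fun l => if l = e3 r then r else if l = e3 s then s else f l) l).Prime ∧
      3 < (fun l => if l = e3 r then r else if l = e3 s then s else f l) l ∧
      e3 ((fun l => if l = e3 r then r else if l = e3 s then s else f l) l) = l := by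
    intro l hl
    dsimp only
    split_ifs with h1 h2
    · exact ⟨hr, hr3, h1.symm⟩
    · exact ⟨hs, hs3, h2.symm⟩
    · exact hf l hl
  obtain ⟨h1, h4⟩ := isCoq_image hF hn C _ hf' hok hfar
  by_contra hcon
  rw [not_or] at hcon
  have h5 : r = s := by
    refine h.coc _ h1 (h4 ▸ h3) r ?_ s ?_ hcon.1 hcon.2
    · exact Finset.mem_image.2 ⟨e3 r, hrC, if_pos rfl⟩
    · refine Finset.mem_image.2 ⟨e3 s, hsC, ?_⟩
      rw [if_neg (Ne.symm hne), if_pos rfl]
  exact hne (congrArg e3 h5)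

end L

/-! ### the classes `TT n` -/

/-- the classes `l` with `2 eta l > n` -/
def TT (n : ℕ) : Finset ℕ := (Finset.range (2 * n)).filter fun l => 3 ≤ l ∧ Okc n l ∧ n < 2 * eta l

/-- its part far from `K` -/
def TK (n K : ℕ) : Finset ℕ := (TT n).filter fun l => Far n K l

theorem eta_even {l : ℕ} (h : l % 2 = 0) : eta l = l / 2 := by
  unfold eta
  rw [if_pos (Nat.even_iff.2 h)]

theorem eta_odd {l : ℕ} (h : l % 2 = 1) : eta l = l := by
  unfold eta
  rw [if_neg (Nat.not_even_iff.2 h)]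

theorem eta_cases (l : ℕ) : (l % 2 = 0 ∧ eta l = l / 2) ∨ (l % 2 = 1 ∧ eta l = l) := by
  rcases Nat.mod_two_eq_zero_or_one l with h | h
  · exact Or.inl ⟨h, eta_even h⟩
  · exact Or.inr ⟨h, eta_odd h⟩

theorem Okc.eta_le {n k : ℕ} (h : Okc n k) : eta k ≤ n := by
  unfold Okc at h
  have := eta_cases k
  omega

theorem mem_TT {n l : ℕ} : l ∈ TT n ↔ 3 ≤ l ∧ Okc n l ∧ n < 2 * eta l := by
  rw [TT, Finset.mem_filter, Finset.mem_range]
  refine ⟨fun h => h.2, fun h => ⟨?_, h⟩⟩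
  obtain ⟨h1, h2, -⟩ := h
  unfold Okc at h2
  omega

theorem oddD_cases {k l : ℕ} (h : OddD k l) (hk : 0 < k) (hl : 0 < l) : k = l ∨
    (l % 2 = k % 2 ∧ 3 * eta k ≤ eta l ∧ k ∣ l) ∨ (l % 2 = k % 2 ∧ 3 * eta l ≤ eta k ∧ l ∣ k) := by
  have key : ∀ {k l : ℕ}, 0 < k → 0 < l → l % k = 0 → (l / k) % 2 = 1 → k = l ∨
      (l % 2 = k % 2 ∧ 3 * eta k ≤ eta l ∧ k ∣ l) := by
    intro k l hk hl h1 h2
    obtain ⟨t, rfl⟩ := Nat.dvd_of_mod_eq_zero h1
    rw [Nat.mul_div_cancel_left _ hk] at h2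
    rcases Nat.eq_or_lt_of_le (show 1 ≤ t by omega) with h3 | h3
    · left
      rw [← h3, mul_one]
    · right
      have h4 : 3 ≤ t := by omega
      obtain ⟨s, rfl⟩ : ∃ s, t = 2 * s + 1 := ⟨t / 2, by omega⟩
      have h5 : k * (2 * s + 1) = 2 * (k * s) + k := by ring
      have h7 : k * 1 ≤ k * s := Nat.mul_le_mul_left _ (by omega)
      have h8 : k * (2 * s + 1) % 2 = k % 2 := by omega
      refine ⟨h8, ?_, Dvd.intro _ rfl⟩
      rcases eta_cases k with ⟨h9, h10⟩ | ⟨h9, h10⟩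
      · rw [h10, eta_even (by omega), h5]
        omega
      · rw [h10, eta_odd (by omega), h5]
        omega
  rcases h with h | h
  · rcases key hk hl h.1 h.2 with h1 | h1
    · exact Or.inl h1
    · exact Or.inr (Or.inl h1)
  · rcases key hl hk h.1 h.2 with h1 | ⟨h1, h2, h3⟩
    · exact Or.inl h1.symm
    · exact Or.inr (Or.inr ⟨h1.symm, h2, h3⟩)

theorem far_TT {n k l : ℕ} (hk : k ∈ TT n) (hl : l ∈ TT n) (hkl : k ≠ l) : Far n k l := by
  obtain ⟨h1, h2, h3⟩ := mem_TT.1 hk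
  obtain ⟨h4, h5, h6⟩ := mem_TT.1 hl
  have h7 := h2.eta_le
  have h8 := h5.eta_le
  refine ⟨by omega, fun h => ?_⟩
  rcases oddD_cases h (by omega) (by omega) with h9 | h9 | h9
  · exact hkl h9
  · omega
  · omega

section window

/-- the classes of the top `t` -/
def WW (n t : ℕ) : Finset ℕ := (Finset.Icc 1 t).image (fun j => 2 * (n - j)) ∪
  (Finset.Ico ((n - t) / 2) ((n + 1) / 2)).image (fun i => 2 * i + 1)

theorem mem_WW {n t l : ℕ} (ht : 2 * t < n) (h : l ∈ WW n t) : Okc n l ∧ n - t ≤ eta l ∧ 3 ≤ l ∨ (n ≤ 2 ∨ n - t < 3) := by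
  rw [WW, Finset.mem_union, Finset.mem_image, Finset.mem_image] at h
  unfold Okc
  rcases h with ⟨j, hj, rfl⟩ | ⟨j, hj, rfl⟩
  · rw [Finset.mem_Icc] at hj
    rw [eta_even (by omega)]
    omega
  · rw [Finset.mem_Ico] at hj
    rw [eta_odd (by omega)]
    omega

theorem card_WW {n t : ℕ} (ht : 2 * t < n) : t + (t + 1) / 2 ≤ (WW n t).card := by
  rw [WW, Finset.card_union_of_disjoint]
  · rw [Finset.card_image_of_injOn, Finset.card_image_of_injective, Nat.card_Icc, Nat.card_Ico]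
    · omega
    · intro a b hab
      dsimp only at hab
      omega
    · intro a ha b hb hab
      have ha' := Finset.mem_Icc.1 ha
      have hb' := Finset.mem_Icc.1 hb
      dsimp only at hab
      omega
  · rw [Finset.disjoint_left]
    intro x hx hx'
    obtain ⟨a, -, ha⟩ := Finset.mem_image.1 hx
    obtain ⟨b, -, hb⟩ := Finset.mem_image.1 hx'
    omega

theorem WW_subset {n t : ℕ} (ht : 2 * t < n) (hn : 5 ≤ n) : WW n t ⊆ TT n := by
  intro l hl
  rcases mem_WW ht hl with ⟨h1, h2, h3⟩ | h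
  · exact mem_TT.2 ⟨h3, h1, by omega⟩
  · omega

theorem card_TT {n t : ℕ} (ht : 2 * t < n) (hn : 5 ≤ n) : t + (t + 1) / 2 ≤ (TT n).card :=
  (card_WW ht).trans (Finset.card_le_card (WW_subset ht hn))

theorem card_TK {n t K : ℕ} (ht : 2 * t < n) (hn : 5 ≤ n) (hK : Okc n K) (htK : t + 1 ≤ eta K) :
    t + (t + 1) / 2 ≤ (TK n K).card + 1 := by
  have h1 := card_WW ht
  have hsub : ∀ l ∈ WW n t, Okc n l ∧ n - t ≤ eta l ∧ 3 ≤ l := fun l hl =>
    (mem_WW ht hl).resolve_right (by omega)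
  have hK3 : 0 < K := by
    rcases Nat.eq_zero_or_pos K with rfl | h
    · rw [eta_even (by norm_num)] at htK
      omega
    · exact h
  have h2 := Finset.card_filter_add_card_filter_not (s := WW n t) (fun l => OddD K l)
  have h3 : ((WW n t).filter fun l => OddD K l).card ≤ 1 := by
    rw [Finset.card_le_one]
    intro a ha b hb
    rw [Finset.mem_filter] at ha hb
    obtain ⟨ha, ha'⟩ := ha
    obtain ⟨hb, hb'⟩ := hb
    obtain ⟨a1, a2, a3⟩ := hsub a ha
    obtain ⟨b1, b2, b3⟩ := hsub b hb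
    have hKn := hK.eta_le
    have key : ∀ {l : ℕ}, 3 ≤ l → n - t ≤ eta l → OddD K l → l % 2 = K % 2 ∧ K ∣ l := by
      intro l h1 h2 h3
      rcases oddD_cases h3 hK3 (by omega) with h4 | h4 | h4
      · exact ⟨by rw [h4], h4 ▸ dvd_rfl⟩
      · exact ⟨h4.1, h4.2.2⟩
      · omega
    obtain ⟨a4, a5⟩ := key a3 a2 ha'
    obtain ⟨b4, b5⟩ := key b3 b2 hb'
    have key2 : ∀ {a b : ℕ}, Okc n a → Okc n b → n - t ≤ eta a → n - t ≤ eta b → a % 2 = K % 2 → b % 2 = K % 2 →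
        K ∣ a → K ∣ b → a ≤ b → a = b := by
      intro a b a1 b1 a2 b2 a4 b4 a5 b5 hab
      have h5 := Nat.dvd_sub b5 a5
      by_contra hne
      have h6 := Nat.le_of_dvd (by omega) h5
      have e1 := eta_cases a
      have e2 := eta_cases b
      have e3 := eta_cases K
      unfold Okc at a1 b1
      omega
    rcases Nat.le_total a b with hab | hab
    · exact key2 a1 b1 a2 b2 a4 b4 a5 b5 hab
    · exact (key2 b1 a1 b2 a2 b4 a4 b5 a5 hab).symm
  have h4 : ((WW n t).filter fun l => ¬ OddD K l) ⊆ TK n K := by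
    intro l hl
    obtain ⟨hl1, hl2⟩ := Finset.mem_filter.1 hl
    obtain ⟨h5, h6, h7⟩ := hsub l hl1
    exact Finset.mem_filter.2 ⟨mem_TT.2 ⟨h7, h5, by omega⟩, by omega, hl2⟩
  have h5 := Finset.card_le_card h4
  omega

end window

/-! ### cocliques of `S` from `TT n` and `TK n K` -/

section S

variable {F : Type v} [Field F] [Fintype F] {n : ℕ} {S : Type u} [Group S]

theorem SHyp.max0 (h : SHyp (POmega F (quadFormPlus n F)) S) (hF : Fintype.card F = 3) (hn : 4 ≤ n)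
    (h3 : 3 ≤ (TT n).card) : ∃ ρ : Finset ℕ, IsCoq S ρ ∧ (∀ r ∈ ρ, 3 < r) ∧ (TT n).card ≤ ρ.card + 1 :=
  h.coq0 hF hn (TT n) (fun _ hl => (mem_TT.1 hl).1) (fun _ hl => (mem_TT.1 hl).2.1)
    (fun _ hk _ hl hkl => far_TT hk hl hkl) h3

theorem SHyp.maxx (h : SHyp (POmega F (quadFormPlus n F)) S) (hF : Fintype.card F = 3) (hn : 4 ≤ n) {x : ℕ}
    (hx : x.Prime) (hx3 : 3 < x) (hxS : x ∣ Nat.card S) (h2 : 2 ≤ (TK n (e3 x)).card) :
    ∃ ρ : Finset ℕ, IsCoq S ρ ∧ (∀ r ∈ ρ, 3 < r) ∧ x ∈ ρ ∧ (TK n (e3 x)).card ≤ ρ.card := by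
  have hs : ∀ l ∈ TK n (e3 x), l ∈ TT n := fun l hl => (Finset.mem_filter.1 hl).1
  exact h.coqx hF hn hx hx3 hxS (TK n (e3 x)) (fun l hl => (mem_TT.1 (hs l hl)).1)
    (fun l hl => (mem_TT.1 (hs l hl)).2.1) (fun k hk l hl hkl => far_TT (hs k hk) (hs l hl) hkl)
    (fun l hl => (Finset.mem_filter.1 hl).2) h2

/-- `x ∣ |S|` and the cocliques of primes `> 3` through `x` have at most `b` members -/
def Test (S : Type u) [Group S] (x b : ℕ) : Prop :=
  x ∣ Nat.card S ∧ ∀ ρ : Finset ℕ, IsCoq S ρ → (∀ r ∈ ρ, 3 < r) → x ∈ ρ → ρ.card ≤ b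

theorem SHyp.no_test (h : SHyp (POmega F (quadFormPlus n F)) S) (hF : Fintype.card F = 3) (hn : 4 ≤ n) {x b : ℕ}
    (hx : x.Prime) (hx3 : 3 < x) (hT : Test S x b) (hb : 1 ≤ b) (hc : Okc n (e3 x) → b < (TK n (e3 x)).card) : False := by
  have h1 := hc (h.okc hF hn hx hx3 hT.1)
  obtain ⟨ρ, h2, h3, h4, h5⟩ := h.maxx hF hn hx hx3 hT.1 (by omega)
  have := hT.2 ρ h2 h3 h4
  omega

end S

/-! ### numerics -/

theorem e3_eq {x K : ℕ} (hK : 0 < K) (h1 : ((3 : ℕ) : ZMod x) ^ K = 1)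
    (h2 : ∀ m, m < K → 0 < m → ((3 : ℕ) : ZMod x) ^ m ≠ 1) : e3 x = K := (orderOf_eq_iff hK).2 ⟨h1, h2⟩

theorem e3_31 : e3 31 = 30 := e3_eq (by norm_num) (by decide) (by decide)
theorem e3_43 : e3 43 = 42 := e3_eq (by norm_num) (by decide +kernel) (by decide +kernel)
theorem e3_17 : e3 17 = 16 := e3_eq (by norm_num) (by decide) (by decide)
theorem e3_29 : e3 29 = 28 := e3_eq (by norm_num) (by decide +kernel) (by decide +kernel)
theorem e3_19 : e3 19 = 18 := e3_eq (by norm_num) (by decide +kernel) (by decide +kernel)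

theorem card_TK_16 {n : ℕ} (hn : 9 ≤ n) (h10 : n ≠ 10) : 6 ≤ (TK n 16).card := by
  by_cases h : 15 ≤ n
  · have := card_TK (n := n) (t := 7) (K := 16) (by omega) (by omega) (by unfold Okc; omega) (by decide)
    omega
  · have h1 : n = 9 ∨ n = 11 ∨ n = 12 ∨ n = 13 ∨ n = 14 := by omega
    rcases h1 with rfl | rfl | rfl | rfl | rfl <;> decide +kernel

theorem card_TK_16' {n : ℕ} (hn : 13 ≤ n) : 8 ≤ (TK n 16).card := by
  by_cases h : 15 ≤ n
  · have := card_TK (n := n) (t := 7) (K := 16) (by omega) (by omega) (by unfold Okc; omega) (by decide)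
    omega
  · have h1 : n = 13 ∨ n = 14 := by omega
    rcases h1 with rfl | rfl <;> decide +kernel

section no

variable {F : Type v} [Field F] [Fintype F] {n : ℕ} {S : Type u} [Group S]

theorem SHyp.no_31 (h : SHyp (POmega F (quadFormPlus n F)) S) (hF : Fintype.card F = 3) (hn : 9 ≤ n)
    (h16 : n ≠ 16) : ¬ Test S 31 10 := fun hT => by
  refine h.no_test hF (by omega) (by norm_num) (by norm_num) hT (by norm_num) fun hok => ?_
  rw [e3_31] at hok ⊢
  have h1 : 17 ≤ n := by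
    unfold Okc at hok
    omega
  have := card_TK (n := n) (t := 8) (K := 30) (by omega) (by omega) hok (by decide)
  omega

theorem SHyp.no_43 (h : SHyp (POmega F (quadFormPlus n F)) S) (hF : Fintype.card F = 3) (hn : 9 ≤ n) :
    ¬ Test S 43 9 := fun hT => by
  refine h.no_test hF (by omega) (by norm_num) (by norm_num) hT (by norm_num) fun hok => ?_
  rw [e3_43] at hok ⊢
  have h1 : 22 ≤ n := by
    unfold Okc at hok
    omega
  have := card_TK (n := n) (t := 7) (K := 42) (by omega) (by omega) hok (by decide)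
  omega

theorem SHyp.no_29 (h : SHyp (POmega F (quadFormPlus n F)) S) (hF : Fintype.card F = 3) (hn : 9 ≤ n) :
    ¬ Test S 29 9 := fun hT => by
  refine h.no_test hF (by omega) (by norm_num) (by norm_num) hT (by norm_num) fun hok => ?_
  rw [e3_29] at hok ⊢
  have h1 : 15 ≤ n := by
    unfold Okc at hok
    omega
  have := card_TK (n := n) (t := 7) (K := 28) (by omega) (by omega) hok (by decide)
  omega

theorem SHyp.no_17 (h : SHyp (POmega F (quadFormPlus n F)) S) (hF : Fintype.card F = 3) (hn : 9 ≤ n) (h10 : n ≠ 10) :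
    ¬ Test S 17 5 := fun hT => by
  refine h.no_test hF (by omega) (by norm_num) (by norm_num) hT (by norm_num) fun hok => ?_
  rw [e3_17]
  exact card_TK_16 hn h10

theorem SHyp.no_17' (h : SHyp (POmega F (quadFormPlus n F)) S) (hF : Fintype.card F = 3) (hn : 13 ≤ n) :
    ¬ Test S 17 7 := fun hT => by
  refine h.no_test hF (by omega) (by norm_num) (by norm_num) hT (by norm_num) fun hok => ?_
  rw [e3_17]
  exact card_TK_16' hn

end no

end Cfsg.Agent.H420.QR
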