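import Cfsg.Agent.H420.CrossL
import Cfsg.Agent.H420.SideBd
import Cfsg.Agent.H376.CocAlt
import Cfsg.Agent.H437.SporNum
import Mathlib

/-!
# `L = PΩ⁺_{2n}(3)`, `n ≥ 9`: alternating and sporadic sections (helper420)

`SHyp.exists_big` : `S` has a prime greater than 71.
-/

set_option autoImplicit false

namespace Cfsg.Agent.H420.QR

open Cfsg Cfsg.Agent.H436 Cfsg.Agent.OrdDiv

universe u v

theorem e3_73 : e3 73 = 12 := e3_eq (by norm_num) (by decide +kernel) (by decide +kernel)
theorem e3_193 : e3 193 = 16 := e3_eq (by norm_num) (by decide +kernel) (by decide +kernel)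
theorem e3_661 : e3 661 = 22 := e3_eq (by norm_num) (by decide +kernel) (by decide +kernel)
theorem e3_6481 : e3 6481 = 24 := e3_eq (by norm_num) (by decide +kernel) (by decide +kernel)
theorem e3_1871 : e3 1871 = 17 := e3_eq (by norm_num) (by decide +kernel) (by decide +kernel)
theorem e3_1597 : e3 1597 = 19 := e3_eq (by norm_num) (by decide +kernel) (by decide +kernel)
theorem e3_368089 : e3 368089 = 21 := e3_eq (by norm_num) (by decide +kernel) (by decide +kernel)

section

variable {F : Type v} [Field F] [Fintype F] {n : ℕ} {S : Type u} [Group S]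

theorem SHyp.big_of_pair (h : SHyp (POmega F (quadFormPlus n F)) S) (hF : Fintype.card F = 3) (hn : 9 ≤ n)
    {r s : ℕ} (hr : r.Prime) (hs : s.Prime) (hr3 : 71 < r) (hs3 : 71 < s) (hrC : e3 r ∈ TT n)
    (hsC : e3 s ∈ TT n) (hne : e3 r ≠ e3 s) : ∃ x : ℕ, x.Prime ∧ 71 < x ∧ x ∣ Nat.card S := by
  have h4 := card_TT (n := n) (t := 4) (by omega) (by omega)
  rcases h.two_cls hF (by omega) (TT n) (fun _ hl => (mem_TT.1 hl).1) (fun _ hl => (mem_TT.1 hl).2.1)
    (fun _ hk _ hl hkl => far_TT hk hl hkl) (by omega) hr hs (by omega) (by omega) hrC hsC hne with h1 | h1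
  · exact ⟨r, hr, hr3, h1⟩
  · exact ⟨s, hs, hs3, h1⟩

theorem mem_TT_even {n i : ℕ} (h1 : i ≤ n - 1) (h2 : n < 2 * i) : 2 * i ∈ TT n :=
  mem_TT.2 ⟨by omega, Or.inr ⟨by omega, by omega⟩, by rw [eta_even (by omega)]; omega⟩

theorem mem_TT_odd {n l : ℕ} (h0 : l % 2 = 1) (h1 : l ≤ n) (h2 : n < 2 * l) (h3 : 3 ≤ l) : l ∈ TT n :=
  mem_TT.2 ⟨h3, Or.inl ⟨h0, h1⟩, by rw [eta_odd h0]; omega⟩

theorem SHyp.exists_big (h : SHyp (POmega F (quadFormPlus n F)) S) (hF : Fintype.card F = 3) (hn : 9 ≤ n) :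
    ∃ x : ℕ, x.Prime ∧ 71 < x ∧ x ∣ Nat.card S := by
  rcases Nat.lt_or_ge n 12 with h12 | h12
  · refine h.big_of_pair hF hn (r := 73) (s := 193) (by norm_num) (by norm_num) (by norm_num) (by norm_num) ?_ ?_ ?_
    · rw [e3_73]; exact mem_TT_even (i := 6) (by omega) (by omega)
    · rw [e3_193]; exact mem_TT_even (i := 8) (by omega) (by omega)
    · rw [e3_73, e3_193]; norm_num
  rcases Nat.lt_or_ge n 16 with h16 | h16
  · refine h.big_of_pair hF hn (r := 661) (s := 193) (by norm_num) (by norm_num) (by norm_num) (by norm_num) ?_ ?_ ?_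
    · rw [e3_661]; exact mem_TT_even (i := 11) (by omega) (by omega)
    · rw [e3_193]; exact mem_TT_even (i := 8) (by omega) (by omega)
    · rw [e3_661, e3_193]; norm_num
  rcases Nat.lt_or_ge n 22 with h22 | h22
  · refine h.big_of_pair hF hn (r := 661) (s := 6481) (by norm_num) (by norm_num) (by norm_num) (by norm_num) ?_ ?_ ?_
    · rw [e3_661]; exact mem_TT_even (i := 11) (by omega) (by omega)
    · rw [e3_6481]; exact mem_TT_even (i := 12) (by omega) (by omega)
    · rw [e3_661, e3_6481]; norm_num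
  rcases Nat.lt_or_ge n 34 with h34 | h34
  · refine h.big_of_pair hF hn (r := 1871) (s := 1597) (by norm_num) (by norm_num) (by norm_num) (by norm_num) ?_ ?_ ?_
    · rw [e3_1871]; exact mem_TT_odd (by norm_num) (by omega) (by omega) (by norm_num)
    · rw [e3_1597]; exact mem_TT_odd (by norm_num) (by omega) (by omega) (by norm_num)
    · rw [e3_1871, e3_1597]; norm_num
  rcases Nat.lt_or_ge n 38 with h38 | h38
  · refine h.big_of_pair hF hn (r := 368089) (s := 1597) (by norm_num) (by norm_num) (by norm_num) (by norm_num) ?_ ?_ ?_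
    · rw [e3_368089]; exact mem_TT_odd (by norm_num) (by omega) (by omega) (by norm_num)
    · rw [e3_1597]; exact mem_TT_odd (by norm_num) (by omega) (by omega) (by norm_num)
    · rw [e3_368089, e3_1597]; norm_num
  obtain ⟨r, hr, hr3, hre⟩ := exists_e3 (l := 2 * (n - 1)) (by omega)
  obtain ⟨s, hs, hs3, hse⟩ := exists_e3 (l := 2 * (n - 2)) (by omega)
  have key : ∀ {r l : ℕ}, r.Prime → 3 < r → e3 r = l → l < r := by
    intro r l hr hr3 hre
    have h1 : e3 r ∣ r - 1 := by
      have := Fact.mk hr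
      refine orderOf_dvd_of_pow_eq_one (ZMod.pow_card_sub_one_eq_one ?_)
      rw [Ne, ZMod.natCast_eq_zero_iff]
      exact not_dvd_three hr3
    have h2 := Nat.le_of_dvd (by omega) h1
    omega
  have h1 := key hr hr3 hre
  have h2 := key hs hs3 hse
  refine h.big_of_pair hF hn hr hs (by omega) (by omega) ?_ ?_ ?_
  · rw [hre]; exact mem_TT_even (by omega) (by omega)
  · rw [hse]; exact mem_TT_even (by omega) (by omega)
  · rw [hre, hse]; omega

theorem alt_prime_dvd {m s : ℕ} (hs : s.Prime) (hs2 : s ≠ 2) (h : s ≤ m) :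
    s ∣ Nat.card (alternatingGroup (Fin m)) := by
  have h1 : Nontrivial (Fin m) := Fin.nontrivial_iff_two_le.2 (hs.two_le.trans h)
  have h2 := two_mul_nat_card_alternatingGroup (α := Fin m)
  have h3 : s ∣ Nat.card (Equiv.Perm (Fin m)) := by
    rw [Nat.card_eq_fintype_card, Fintype.card_perm, Fintype.card_fin]
    exact (Nat.Prime.dvd_factorial hs).2 h
  rw [← h2] at h3
  exact (hs.dvd_mul.1 h3).resolve_left
    (fun h4 => hs2 ((Nat.prime_dvd_prime_iff_eq hs Nat.prime_two).1 h4))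

/-- **Alternating sections.** -/
theorem SHyp.cross_alt (h : SHyp (POmega F (quadFormPlus n F)) S) (hF : Fintype.card F = 3) (hn : 9 ≤ n) (h16 : n ≠ 16)
    {m : ℕ} (e : S ≃* alternatingGroup (Fin m)) : False := by
  have hc := Nat.card_congr e.toEquiv
  obtain ⟨x, hx, hx71, hxS⟩ := h.exists_big hF hn
  rw [hc] at hxS
  have hm := H376.Coc.alt_dvd_le hx hxS
  refine h.no_31 hF hn h16 ⟨?_, fun ρ hρ h3 h31 => ?_⟩
  · rw [hc]
    exact alt_prime_dvd (by norm_num) (by norm_num) (by omega)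
  · have hρ' := IsCoq.congr e hρ
    exact H376.Coc.alt_coclique_thirtyOne (m := m) ⟨hρ'.prime, hρ'.dvd, hρ'.nadj⟩ h31 (by omega)

theorem spor_smooth : ∀ n ∈ H437.sporList, n ∣ Nat.factorial 71 := by
  decide +kernel

/-- **Sporadic sections.** -/
theorem SHyp.cross_spor (h : SHyp (POmega F (quadFormPlus n F)) S) (hF : Fintype.card F = 3) (hn : 9 ≤ n)
    (hS : Nat.card S ∈ H437.sporList) : False := by
  obtain ⟨x, hx, hx71, hxS⟩ := h.exists_big hF hn
  have h1 : x ≤ 71 := (Nat.Prime.dvd_factorial hx).1 (hxS.trans (spor_smooth _ hS))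
  omega

end

end Cfsg.Agent.H420.QR
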