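import Cfsg.Agent.H420.ExcStep
import Cfsg.Agent.H420.CrossL
import Mathlib

/-!
# `L = PΩ⁺_{2n}(3)`, `n ≥ 9`: exceptional sections have characteristic three (helper420)
-/

set_option autoImplicit false

namespace Cfsg.Agent.H420.QR

open Cfsg Cfsg.Agent.H436 Cfsg.Agent.H420.Tab3

universe u v

/-- the exponents of `|PΩ⁺_{2n}(3)|` -/
def okP (n k : ℕ) : Bool :=
  Nat.ble 1 k && ((Nat.beq (k % 2) 1 && Nat.ble k n) || (Nat.beq (k % 2) 0 && Nat.ble k (2 * (n - 1))))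

theorem okP_of_okc {n N k : ℕ} (hN : n ≤ N) (h1 : 1 ≤ k) (h : Okc n k) : okP N k = true := by
  unfold okP
  unfold Okc at h
  rw [Bool.and_eq_true, Bool.or_eq_true, Bool.and_eq_true, Bool.and_eq_true, Nat.ble_eq, Nat.ble_eq, Nat.ble_eq,
    Nat.beq_eq, Nat.beq_eq]
  omega

section

variable {F : Type v} [Field F] [Fintype F] {n : ℕ} {S : Type u} [Group S]

theorem SHyp.piT (h : SHyp (POmega F (quadFormPlus n F)) S) (hF : Fintype.card F = 3) (hn : 4 ≤ n) {N : ℕ}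
    (hN : n ≤ N) : PiT S (okP N) (2 * N) := by
  intro r hr hd hr3
  by_cases h2 : r = 2
  · subst h2
    refine ⟨2, by omega, okP_of_okc (n := 4) (by omega) (by norm_num) (Or.inr ⟨by norm_num, by norm_num⟩), by norm_num⟩
  · have h3 : 3 < r := by
      have := hr.two_le
      omega
    have h4 := h.okc hF hn hr h3 hd
    have h5 := three_le_e3 hr h3
    refine ⟨e3 r, ?_, okP_of_okc hN (by omega) h4, ?_⟩
    · unfold Okc at h4
      omega
    · exact ((prim_ee (q := 3) (by norm_num) hr (not_dvd_three h3)).dvd_iff _).2 dvd_rfl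

theorem SHyp.le_cover (h : SHyp (POmega F (quadFormPlus n F)) S) (hF : Fintype.card F = 3) (hn : 9 ≤ n) {p f c : ℕ}
    (hp : p.Prime) (hcov : Cover S (p ^ f) c) : (TT n).card ≤ c + 2 ∧ (p ≤ 3 → (TT n).card ≤ c + 1) := by
  classical
  have h4 := card_TT (n := n) (t := 4) (by omega) (by omega)
  obtain ⟨ρ, hρ, h3, hcard⟩ := h.max0 hF (by omega) (by omega)
  have key : (ρ.erase p).card ≤ c := by
    refine hcov.card_le _ (fun r hr => ?_) fun r hr s hs hrs => ?_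
    · obtain ⟨hrp, hrC⟩ := Finset.mem_erase.1 hr
      refine ⟨hρ.prime r hrC, h3 r hrC, fun hd => hrp ?_, hρ.dvd r hrC⟩
      exact (Nat.prime_dvd_prime_iff_eq (hρ.prime r hrC) hp).1 ((hρ.prime r hrC).dvd_of_dvd_pow hd)
    · exact hρ.nadj r (Finset.mem_of_mem_erase hr) s (Finset.mem_of_mem_erase hs) hrs
  have h2 := Finset.pred_card_le_card_erase (s := ρ) (a := p)
  refine ⟨by omega, fun hp3 => ?_⟩
  have h5 : p ∉ ρ := fun h => by have := h3 p h; omega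
  rw [Finset.erase_eq_of_notMem h5] at key
  omega

def w3e6 : List (ℕ × ℕ × ℕ) :=
  [(5, 31, 6), (7, 19, 6), (11, 19, 6), (13, 157, 6), (17, 29, 8), (41, 29, 8), (61, 31, 2), (73, 37, 2),
   (193, 37, 12), (547, 37, 12), (757, 157, 8), (1093, 181, 12)]

def w3e7 : List (ℕ × ℕ × ℕ) :=
  [(2, 31, 10), (5, 29, 14), (7, 29, 14), (11, 43, 14), (13, 29, 14), (17, 29, 8), (19, 127, 6), (23, 29, 14),
   (37, 31, 6), (41, 29, 8), (61, 31, 2), (67, 29, 14), (73, 131, 10), (193, 43, 14), (547, 29, 14), (661, 29, 14),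
   (757, 157, 8), (1093, 29, 14), (1181, 59, 2), (3851, 29, 14), (6481, 31, 10), (398581, 29, 14), (797161, 29, 14)]

def w3e8 : List (ℕ × ℕ × ℕ) :=
  [(2, 43, 14), (5, 71, 20), (7, 43, 12), (11, 43, 14), (13, 157, 12), (17, 71, 20), (19, 127, 12), (23, 53, 8),
   (29, 181, 30), (31, 181, 20), (37, 43, 12), (41, 43, 14), (61, 97, 12), (67, 181, 30), (73, 97, 24), (103, 71, 14),
   (193, 43, 14), (271, 101, 20), (307, 43, 12), (547, 97, 12), (661, 43, 14), (757, 151, 30), (1021, 43, 14),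
   (1093, 181, 12), (1181, 59, 2), (1597, 43, 12), (1871, 43, 14), (2851, 197, 14), (3851, 71, 20), (4561, 71, 20),
   (6481, 71, 14), (16493, 109, 18), (34511, 71, 20), (101917, 43, 12), (363889, 71, 20), (398581, 113, 14),
   (530713, 43, 12), (797161, 43, 14), (21523361, 71, 20)]

theorem c3e6 : chkT (okP 9) (2 * 9) dg6 [2] w3e6 = true := by decide +kernel
theorem c3e7 : chkT (okP 14) (2 * 14) dg7 [] w3e7 = true := by decide +kernel
theorem c3e8 : chkT (okP 20) (2 * 20) dg8 [] w3e8 = true := by decide +kernel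

theorem card_TT_nine : (TT 9).card = 7 := by decide +kernel

/-- the table for `F₄`, `E₆`, `²E₆` -/
theorem SHyp.tab6 (h : SHyp (POmega F (quadFormPlus n F)) S) (hF : Fintype.card F = 3) (hn : 9 ≤ n) (h10 : n ≠ 10)
    {p f : ℕ} (hp : p.Prime) (hcov : Cover S (p ^ f) 5) : n = 9 ∧ ¬ p ≤ 3 := by
  obtain ⟨h1, h2⟩ := h.le_cover hF hn hp hcov
  have h3 : n = 9 := by
    by_contra hne
    have := card_TT (n := n) (t := 5) (by omega) (by omega)
    omega
  refine ⟨h3, fun hp3 => ?_⟩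
  have h4 := h2 hp3
  rw [h3, card_TT_nine] at h4
  omega

/-- **Exceptional sections.** -/
theorem SHyp.cross_g2 (h : SHyp (POmega F (quadFormPlus n F)) S) (hF : Fintype.card F = 3) (hn : 9 ≤ n)
    {q : ℕ} (hg : IsNamed (.g2 q) S) : False := by
  have hu : IsPrimePow q := hg.cond.2
  have hcov := cov_g2 hg
  obtain ⟨p, f, hp, hf, rfl⟩ := hu
  have h1 := (h.le_cover hF hn hp.nat_prime hcov).1
  have := card_TT (n := n) (t := 4) (by omega) (by omega)
  omega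

theorem SHyp.cross_td4 (h : SHyp (POmega F (quadFormPlus n F)) S) (hF : Fintype.card F = 3) (hn : 9 ≤ n)
    {q : ℕ} (hg : IsNamed (.td4 q) S) : False := by
  have hu : IsPrimePow q := hg.cond
  have hcov := cov_td4 hg
  obtain ⟨p, f, hp, hf, rfl⟩ := hu
  have h1 := (h.le_cover hF hn hp.nat_prime hcov).1
  have := card_TT (n := n) (t := 4) (by omega) (by omega)
  omega

theorem SHyp.cross_sz (h : SHyp (POmega F (quadFormPlus n F)) S) (hF : Fintype.card F = 3) (hn : 9 ≤ n)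
    {q : ℕ} (hg : IsNamed (.sz q) S) : False := by
  have h1 := (h.le_cover hF hn Nat.prime_two (cov_sz hg)).1
  have := card_TT (n := n) (t := 4) (by omega) (by omega)
  omega

theorem SHyp.cross_tf4 (h : SHyp (POmega F (quadFormPlus n F)) S) (hF : Fintype.card F = 3) (hn : 9 ≤ n) (h10 : n ≠ 10)
    {q : ℕ} (hg : IsNamed (.tf4 q) S) : False :=
  (h.tab6 hF hn h10 Nat.prime_two (cov_tf4 hg)).2 (by norm_num)

theorem SHyp.chk6 (h : SHyp (POmega F (quadFormPlus n F)) S) (hF : Fintype.card F = 3) (hn : 9 ≤ n) (h10 : n ≠ 10)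
    {q : ℕ} (hcov : Cover S q 5) {ok : ℕ → Bool} {B : ℕ} (hB : n = 9 → ok = okP 9 ∧ B = 2 * 9) :
    ∀ p f : ℕ, p.Prime → q = p ^ f → p ≠ 3 → ∃ (ex : List ℕ) (ws : List (ℕ × ℕ × ℕ)),
      chkT ok B dg6 ex ws = true ∧ p ∉ ex := by
  intro p f hp hq hp3
  subst hq
  obtain ⟨h1, h2⟩ := h.tab6 hF hn h10 hp hcov
  obtain ⟨h3, h4⟩ := hB h1
  subst h3
  subst h4
  refine ⟨[2], w3e6, c3e6, fun hm => ?_⟩
  rw [List.mem_singleton] at hm
  omega

theorem SHyp.cross_f4 (h : SHyp (POmega F (quadFormPlus n F)) S) (hF : Fintype.card F = 3) (hn : 9 ≤ n) (h10 : n ≠ 10)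
    {q : ℕ} (hg : IsNamed (.f4 q) S) : ∃ f : ℕ, f ≠ 0 ∧ q = 3 ^ f :=
  exc_f4 (h.piT hF (by omega) le_rfl) hg (h.chk6 hF hn h10 (cov_f4 hg) fun h9 => by subst h9; exact ⟨rfl, rfl⟩)

theorem SHyp.cross_e6 (h : SHyp (POmega F (quadFormPlus n F)) S) (hF : Fintype.card F = 3) (hn : 9 ≤ n) (h10 : n ≠ 10)
    {q : ℕ} (hg : IsNamed (.e6 q) S) : ∃ f : ℕ, f ≠ 0 ∧ q = 3 ^ f :=
  exc_e6 (h.piT hF (by omega) le_rfl) hg (h.chk6 hF hn h10 (cov_e6 hg) fun h9 => by subst h9; exact ⟨rfl, rfl⟩)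

theorem SHyp.cross_te6 (h : SHyp (POmega F (quadFormPlus n F)) S) (hF : Fintype.card F = 3) (hn : 9 ≤ n) (h10 : n ≠ 10)
    {q : ℕ} (hg : IsNamed (.te6 q) S) : ∃ f : ℕ, f ≠ 0 ∧ q = 3 ^ f :=
  exc_te6 (h.piT hF (by omega) le_rfl) hg (h.chk6 hF hn h10 (cov_te6 hg) fun h9 => by subst h9; exact ⟨rfl, rfl⟩)

theorem SHyp.cross_e7 (h : SHyp (POmega F (quadFormPlus n F)) S) (hF : Fintype.card F = 3) (hn : 9 ≤ n)
    {q : ℕ} (hg : IsNamed (.e7 q) S) : ∃ f : ℕ, f ≠ 0 ∧ q = 3 ^ f := by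
  have hu : IsPrimePow q := hg.cond
  have hcov := cov_e7 hg
  have h14 : n ≤ 14 := by
    obtain ⟨p, f, hp, hf, rfl⟩ := hu
    have h1 := (h.le_cover hF hn hp.nat_prime hcov).1
    by_contra hlt
    have := card_TT (n := n) (t := 7) (by omega) (by omega)
    omega
  exact exc_e7 (h.piT hF (by omega) h14) hg fun p f _ _ _ => ⟨[], w3e7, c3e7, List.not_mem_nil⟩

theorem SHyp.cross_e8 (h : SHyp (POmega F (quadFormPlus n F)) S) (hF : Fintype.card F = 3) (hn : 9 ≤ n)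
    {q : ℕ} (hg : IsNamed (.e8 q) S) : ∃ f : ℕ, f ≠ 0 ∧ q = 3 ^ f := by
  have hu : IsPrimePow q := hg.cond
  have hcov := cov_e8 hg
  have h20 : n ≤ 20 := by
    obtain ⟨p, f, hp, hf, rfl⟩ := hu
    have h1 := (h.le_cover hF hn hp.nat_prime hcov).1
    by_contra hlt
    have := card_TT (n := n) (t := 10) (by omega) (by omega)
    omega
  exact exc_e8 (h.piT hF (by omega) h20) hg fun p f _ _ _ => ⟨[], w3e8, c3e8, List.not_mem_nil⟩

end

end Cfsg.Agent.H420.QR
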