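import Cfsg.Agent.H420.CrossCls
import Cfsg.Agent.H420.CrossExc
import Cfsg.Agent.H420.CrossAlt
import Cfsg.Agent.H425.ChrBase
import Mathlib

/-!
# `L = PΩ⁺_{2n}(3)`, `n ≥ 9`, `n ≠ 10, 16`: sections have characteristic three (helper420)
-/

set_option autoImplicit false

namespace Cfsg.Agent.H420.QR

open Cfsg Cfsg.Agent.H436 Cfsg.Agent.OrdDiv

universe u v

variable {F : Type v} [Field F] [Fintype F] {n : ℕ} {S : Type u} [Group S] [Finite S]

/-- **The elimination of the other characteristics.** -/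
theorem cross (h : SHyp (POmega F (quadFormPlus n F)) S) (hF : Fintype.card F = 3) (hn : 9 ≤ n)
    (h10 : n ≠ 10) (h16 : n ≠ 16) {g : Grp} (hg : IsNamed g S) : ∃ f : ℕ, f ≠ 0 ∧ H425.Chr.qOf g = 3 ^ f := by
  have spor : Nat.card S ∈ H437.sporList → ∃ f : ℕ, f ≠ 0 ∧ H425.Chr.qOf g = 3 ^ f :=
    fun h' => (h.cross_spor hF hn h').elim
  cases g with
  | alt m =>
    obtain ⟨e⟩ := hg.real
    exact (h.cross_alt hF hn h16 e).elim
  | psl m q => exact cross_psl h hF hn h10 h16 hg
  | psp m q => exact cross_psp h hF hn h10 h16 hg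
  | psu m q => exact cross_psu h hF hn h10 h16 hg
  | oodd m q => exact cross_oodd h hF hn h10 h16 hg
  | oplus m q => exact cross_oplus h hF hn h10 h16 hg
  | ominus m q => exact cross_ominus h hF hn h10 h16 hg
  | g2 q => exact (h.cross_g2 hF hn hg).elim
  | f4 q => exact h.cross_f4 hF hn h10 hg
  | e6 q => exact h.cross_e6 hF hn h10 hg
  | e7 q => exact h.cross_e7 hF hn hg
  | e8 q => exact h.cross_e8 hF hn hg
  | te6 q => exact h.cross_te6 hF hn h10 hg
  | td4 q => exact (h.cross_td4 hF hn hg).elim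
  | sz q => exact (h.cross_sz hF hn hg).elim
  | ree q => exact ree_three hg
  | tf4 q => exact (h.cross_tf4 hF hn h10 hg).elim
  | _ => exact spor (by rw [hg.ord]; decide +kernel)

end Cfsg.Agent.H420.QR
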