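import Cfsg.Agent.H363.Frat

/-!
# A chief factor of order divisible by a given prime, above a normal subgroup of order prime to it
-/

set_option autoImplicit false

namespace Cfsg.Agent.H420.Chief

open Subgroup

variable {G : Type*} [Group G] [Finite G]

/-- `K` is a largest normal `p'`-subgroup and `M` is a minimal normal subgroup of `G / K`; `p` divides `|M|`. -/
theorem exists_chief {p : ℕ} (hp : p.Prime) (hd : p ∣ Nat.card G) :
    ∃ (K : Subgroup G) (_ : K.Normal) (M : Subgroup (G ⧸ K)), M.Normal ∧ ¬ p ∣ Nat.card K ∧ p ∣ Nat.card M ∧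
      ∀ L : Subgroup (G ⧸ K), L.Normal → L ≤ M → L = ⊥ ∨ L = M := by
  obtain ⟨K, hK⟩ := (Set.toFinite {K : Subgroup G | K.Normal ∧ ¬ p ∣ Nat.card K}).exists_maximal
    ⟨⊥, inferInstance, by rw [card_bot]; exact fun h => hp.one_lt.ne' (Nat.dvd_one.1 h)⟩
  obtain ⟨⟨hKn, hKp⟩, hmax⟩ := hK
  have hne : (⊤ : Subgroup (G ⧸ K)) ≠ ⊥ := by
    intro h
    have h1 : Nat.card (G ⧸ K) = 1 := by
      rw [← card_top, h, card_bot]
    apply hKp
    have h2 := Subgroup.card_eq_card_quotient_mul_card_subgroup K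
    rw [h1, one_mul] at h2
    rwa [← h2]
  obtain ⟨M, hM⟩ := (Set.toFinite {M : Subgroup (G ⧸ K) | M.Normal ∧ M ≠ ⊥}).exists_minimal
    ⟨⊤, inferInstance, hne⟩
  obtain ⟨⟨hMn, hM1⟩, hmin⟩ := hM
  refine ⟨K, hKn, M, hMn, hKp, ?_, ?_⟩
  · by_contra hMp
    have h1 : (M.comap (QuotientGroup.mk' K)).Normal := hMn.comap _
    have h2 : Nat.card (M.comap (QuotientGroup.mk' K)) = Nat.card K * Nat.card M := by
      have h3 := (K.subgroupOf (M.comap (QuotientGroup.mk' K))).card_eq_card_quotient_mul_card_subgroup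
      have h4 : K ≤ M.comap (QuotientGroup.mk' K) := by
        intro x hx
        rw [mem_comap, QuotientGroup.mk'_apply, (QuotientGroup.eq_one_iff x).2 hx]
        exact M.one_mem
      rw [Nat.card_congr (Cfsg.Agent.H363.Frat.quotEquiv K M).toEquiv, Nat.card_congr (subgroupOfEquivOfLe h4).toEquiv] at h3
      rw [h3, mul_comm]
    have h5 : K ≤ M.comap (QuotientGroup.mk' K) := by
      intro x hx
      rw [mem_comap, QuotientGroup.mk'_apply, (QuotientGroup.eq_one_iff x).2 hx]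
      exact M.one_mem
    have h6 : M.comap (QuotientGroup.mk' K) ≤ K := by
      apply hmax ⟨h1, ?_⟩ h5
      rw [h2, hp.dvd_mul]
      exact not_or.2 ⟨hKp, hMp⟩
    apply hM1
    rw [eq_bot_iff]
    intro y hy
    obtain ⟨x, rfl⟩ := QuotientGroup.mk_surjective y
    rw [mem_bot]
    exact (QuotientGroup.eq_one_iff x).2 (h6 hy)
  · intro L hL hLM
    by_cases h : L = ⊥
    · exact Or.inl h
    · exact Or.inr (le_antisymm hLM (hmin ⟨hL, h⟩ hLM))

theorem factorization_one {n p : ℕ} (hp : p.Prime) (hn : n ≠ 0) (h1 : p ∣ n) (h2 : ¬ p ^ 2 ∣ n) :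
    n.factorization p = 1 := by
  have h3 : 1 ≤ n.factorization p := (hp.pow_dvd_iff_le_factorization hn).1 (by rwa [pow_one])
  have h4 : ¬ 2 ≤ n.factorization p := fun h => h2 ((hp.pow_dvd_iff_le_factorization hn).2 h)
  omega

end Cfsg.Agent.H420.Chief
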