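import Cfsg.Agent.H420.CrossRank

/-!
# Cross characteristic elimination: the classical groups (helper420)

A classical group `S` with `SHyp PΩ⁺_{2n}(3) S`, `n ≥ 9`, `n ≠ 10, 16` has characteristic three.
-/

set_option autoImplicit false

namespace Cfsg.Agent.H420.QR

open Cfsg Cfsg.Agent.H436 Cfsg.Agent.OrdDiv Cfsg.Agent.H72

universe u v

section

variable {F : Type v} [Field F] [Fintype F] {n : ℕ} {S : Type u} [Group S]

theorem exists_six (h : SHyp (POmega F (quadFormPlus n F)) S) (hF : Fintype.card F = 3) (hn : 9 ≤ n) (h10 : n ≠ 10) :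
    ∃ ρ : Finset ℕ, IsCoq S ρ ∧ (∀ r ∈ ρ, 3 < r) ∧ 6 ≤ ρ.card := by
  have h1 : 7 ≤ (TT n).card := by
    by_cases h2 : n = 9
    · subst h2
      decide +kernel
    · have := card_TT (n := n) (t := 5) (by omega) (by omega)
      omega
  obtain ⟨ρ, h2, h3, h4⟩ := h.max0 hF (by omega) (by omega)
  exact ⟨ρ, h2, h3, by omega⟩

/-- the reduction to a prime power -/
theorem of_prime_pow (h : SHyp (POmega F (quadFormPlus n F)) S) (hF : Fintype.card F = 3) (hn : 9 ≤ n)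
    (h10 : n ≠ 10) (h16 : n ≠ 16) {q : ℕ} (hq : IsPrimePow q) (hfam : ∀ (r₀ f : ℕ), r₀.Prime → f ≠ 0 → q = r₀ ^ f →
      r₀ ≠ 3 → Fam S r₀) : ∃ f : ℕ, f ≠ 0 ∧ q = 3 ^ f := by
  obtain ⟨p, k, hp, hk, hpk⟩ := hq
  have hp' : p.Prime := hp.nat_prime
  by_cases h3 : p = 3
  · exact ⟨k, by omega, by rw [← hpk, h3]⟩
  · exact (h.no_fam hF hn h10 h16 hp' h3 (hfam p k hp' (by omega) hpk.symm h3)).elim

theorem cross_psl (h : SHyp (POmega F (quadFormPlus n F)) S) (hF : Fintype.card F = 3) (hn : 9 ≤ n)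
    (h10 : n ≠ 10) (h16 : n ≠ 16) {m q : ℕ} (hg : IsNamed (.psl m q) S) : ∃ f : ℕ, f ≠ 0 ∧ q = 3 ^ f := by
  obtain ⟨F', _, _, hF', ⟨e⟩⟩ := hg.real
  obtain ⟨hm, -, hq⟩ := hg.cond
  obtain ⟨ρ, h1, h2, h3⟩ := exists_six h hF hn h10
  have hm9 := rank_psl hm e h1 h2 h3
  exact of_prime_pow h hF hn h10 h16 hq fun r₀ f hr hf hqf _ => fam_psl hr hf (hF'.trans hqf) e hm9

theorem cross_psu (h : SHyp (POmega F (quadFormPlus n F)) S) (hF : Fintype.card F = 3) (hn : 9 ≤ n)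
    (h10 : n ≠ 10) (h16 : n ≠ 16) {m q : ℕ} (hg : IsNamed (.psu m q) S) : ∃ f : ℕ, f ≠ 0 ∧ q = 3 ^ f := by
  obtain ⟨F', _, _, hF', ⟨e⟩⟩ := hg.real
  obtain ⟨hm, -, hq⟩ := hg.cond
  obtain ⟨ρ, h1, h2, h3⟩ := exists_six h hF hn h10
  have hm9 := rank_psu hF' hm e h1 h2 h3
  refine of_prime_pow h hF hn h10 h16 hq fun r₀ f hr hf hqf _ => ?_
  subst hqf
  exact fam_psu hr hf hF' e hm9

theorem cross_psp (h : SHyp (POmega F (quadFormPlus n F)) S) (hF : Fintype.card F = 3) (hn : 9 ≤ n)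
    (h10 : n ≠ 10) (h16 : n ≠ 16) {m q : ℕ} (hg : IsNamed (.psp m q) S) : ∃ f : ℕ, f ≠ 0 ∧ q = 3 ^ f := by
  obtain ⟨F', _, _, hF', ⟨e⟩⟩ := hg.real
  obtain ⟨hm, -, hq⟩ := hg.cond
  obtain ⟨ρ, h1, h2, h3⟩ := exists_six h hF hn h10
  have hm5 := rank_sp hm e h1 h2 h3
  refine of_prime_pow h hF hn h10 h16 hq fun r₀ f hr hf hqf _ => ?_
  refine fam_sp hr hf (hF'.trans hqf) ((wc_sp hm).congr e) ?_ hm5
  intro x hx hx3 hd
  have h4 : Nat.gcd 2 (q - 1) * Nat.card S = q ^ (m ^ 2) * prB q m := hg.eq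
  have h5 : x ∣ Nat.gcd 2 (q - 1) * Nat.card S := by
    rw [h4]
    refine Dvd.dvd.mul_left (dvd_prB (i := 4) (by omega) ?_) _
    rw [hqf]
    exact dvd_pow_sub hd
  exact (hx.dvd_mul.1 h5).resolve_left (not_dvd_gcd_two hx3)

theorem cross_oodd (h : SHyp (POmega F (quadFormPlus n F)) S) (hF : Fintype.card F = 3) (hn : 9 ≤ n)
    (h10 : n ≠ 10) (h16 : n ≠ 16) {m q : ℕ} (hg : IsNamed (.oodd m q) S) : ∃ f : ℕ, f ≠ 0 ∧ q = 3 ^ f := by
  obtain ⟨F', _, _, hF', ⟨e⟩⟩ := hg.real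
  obtain ⟨hm, ho, hq⟩ := hg.cond
  obtain ⟨ρ, h1, h2, h3⟩ := exists_six h hF hn h10
  have h2' : (2 : F') ≠ 0 := two_ne_zero_of_odd (by rw [hF']; exact ho)
  have hm5 := rank_odd h2' hm e h1 h2 h3
  refine of_prime_pow h hF hn h10 h16 hq fun r₀ f hr hf hqf _ => ?_
  refine fam_sp hr hf (hF'.trans hqf) ((wc_odd h2' hm).congr e) ?_ hm5
  intro x hx hx3 hd
  have h4 : 2 * Nat.card S = q ^ (m ^ 2) * prB q m := hg.eq
  have h5 : x ∣ 2 * Nat.card S := by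
    rw [h4]
    refine Dvd.dvd.mul_left (dvd_prB (i := 4) (by omega) ?_) _
    rw [hqf]
    exact dvd_pow_sub hd
  refine (hx.dvd_mul.1 h5).resolve_left fun h6 => ?_
  have := Nat.le_of_dvd (by norm_num) h6
  omega

theorem cross_oplus (h : SHyp (POmega F (quadFormPlus n F)) S) (hF : Fintype.card F = 3) (hn : 9 ≤ n)
    (h10 : n ≠ 10) (h16 : n ≠ 16) {m q : ℕ} (hg : IsNamed (.oplus m q) S) : ∃ f : ℕ, f ≠ 0 ∧ q = 3 ^ f := by
  obtain ⟨F', _, _, hF', ⟨e⟩⟩ := hg.real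
  obtain ⟨hm, hq⟩ := hg.cond
  obtain ⟨ρ, h1, h2, h3⟩ := exists_six h hF hn h10
  have hm6 := rank_plus hm e h1 h2 h3
  refine of_prime_pow h hF hn h10 h16 hq fun r₀ f hr hf hqf _ => ?_
  have hW := (wc_plus (F := F') hm).congr e
  rw [Nat.card_eq_fintype_card, hF', hqf] at hW
  refine fam_pm hr hf hW (fun w₀ => by omega) ?_ ?_ hm6
  · intro hr3 s hs hs3 hsr he
    have : Fact r₀.Prime := ⟨hr⟩
    have : CharP F' r₀ := by
      obtain ⟨p, hp⟩ := CharP.exists F'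
      have hpp : p.Prime := CharP.char_is_prime F' p
      obtain ⟨k, -, hk⟩ := FiniteField.card F' p
      have h5 : r₀ ∣ p ^ (k : ℕ) := by
        rw [← hk, hF', hqf]
        exact dvd_pow_self _ hf
      rwa [(Nat.prime_dvd_prime_iff_eq hr hpp).1 (hr.dvd_of_dvd_pow h5)]
    obtain ⟨g, hg'⟩ := Task106.plus_char (F := F') (p := r₀) hr (by omega) hm hs (by omega) hsr
      (by rw [Nat.card_eq_fintype_card, hF', hqf]; exact he)
    exact ⟨e.symm g, by rw [MulEquiv.orderOf_eq, hg']⟩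
  · intro x hx hx3 hd
    have h4 : Nat.gcd 4 (q ^ m - 1) * Nat.card S = q ^ (m * (m - 1)) * ((q ^ m - 1) * prB q (m - 1)) := hg.eq
    have h5 : x ∣ Nat.gcd 4 (q ^ m - 1) * Nat.card S := by
      rw [h4]
      refine Dvd.dvd.mul_left (Dvd.dvd.mul_left (dvd_prB (i := 4) (by omega) ?_) _) _
      rw [hqf]
      exact dvd_pow_sub hd
    exact (hx.dvd_mul.1 h5).resolve_left (not_dvd_gcd_four hx hx3)

theorem cross_ominus (h : SHyp (POmega F (quadFormPlus n F)) S) (hF : Fintype.card F = 3) (hn : 9 ≤ n)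
    (h10 : n ≠ 10) (h16 : n ≠ 16) {m q : ℕ} (hg : IsNamed (.ominus m q) S) : ∃ f : ℕ, f ≠ 0 ∧ q = 3 ^ f := by
  obtain ⟨F', _, _, a, b, hF', hab, ⟨e⟩⟩ := hg.real
  obtain ⟨hm, hq⟩ := hg.cond
  obtain ⟨ρ, h1, h2, h3⟩ := exists_six h hF hn h10
  have hm6 := rank_minus hm hab e h1 h2 h3
  refine of_prime_pow h hF hn h10 h16 hq fun r₀ f hr hf hqf _ => ?_
  have hW := (wc_minus (F := F') hm hab).congr e
  rw [Nat.card_eq_fintype_card, hF', hqf] at hW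
  refine fam_pm hr hf hW (fun w₀ => by omega) ?_ ?_ hm6
  · intro hr3 s hs hs3 hsr he
    have : Fact r₀.Prime := ⟨hr⟩
    have : CharP F' r₀ := by
      obtain ⟨p, hp⟩ := CharP.exists F'
      have hpp : p.Prime := CharP.char_is_prime F' p
      obtain ⟨k, -, hk⟩ := FiniteField.card F' p
      have h5 : r₀ ∣ p ^ (k : ℕ) := by
        rw [← hk, hF', hqf]
        exact dvd_pow_self _ hf
      rwa [(Nat.prime_dvd_prime_iff_eq hr hpp).1 (hr.dvd_of_dvd_pow h5)]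
    obtain ⟨g, hg'⟩ := Task106.minus_char (F := F') (p := r₀) hr (by omega) hm hab hs (by omega) hsr
      (by rw [Nat.card_eq_fintype_card, hF', hqf]; exact he)
    exact ⟨e.symm g, by rw [MulEquiv.orderOf_eq, hg']⟩
  · intro x hx hx3 hd
    have h4 : Nat.gcd 4 (q ^ m + 1) * Nat.card S = q ^ (m * (m - 1)) * ((q ^ m + 1) * prB q (m - 1)) := hg.eq
    have h5 : x ∣ Nat.gcd 4 (q ^ m + 1) * Nat.card S := by
      rw [h4]
      refine Dvd.dvd.mul_left (Dvd.dvd.mul_left (dvd_prB (i := 4) (by omega) ?_) _) _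
      rw [hqf]
      exact dvd_pow_sub hd
    exact (hx.dvd_mul.1 h5).resolve_left (not_dvd_gcd_four hx hx3)

end

end Cfsg.Agent.H420.QR
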