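import Cfsg.Agent.H420.SideBd
import Cfsg.Agent.H420.CrossL

/-!
# Cross characteristic elimination: the classical groups (helper420)

* `Fam S r₀` : what is used of a classical group `S` of characteristic `r₀`; `SHyp.no_fam` : contradiction for `r₀ ≠ 3`;
* `fam_psl`, ..., `fam_minus` : the classical groups of large rank;
* `rank_psl`, ..., `rank_minus` : the rank is large if there is a coclique with six primes `> 3`.
-/

set_option autoImplicit false

namespace Cfsg.Agent.H420.QR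

open Cfsg Cfsg.Agent.H436 Cfsg.Agent.OrdDiv Cfsg.Agent.H72

universe u v

/-- what is used of a classical group `S` of characteristic `r₀` -/
structure Fam (S : Type u) [Group S] (r₀ : ℕ) : Prop where
  dvd : 3 < r₀ → r₀ ∣ Nat.card S
  own : 3 < r₀ → ∀ ρ : Finset ℕ, IsCoq S ρ → (∀ r ∈ ρ, 3 < r) → r₀ ∈ ρ → ρ.card ≤ 4
  two : r₀ = 2 → Test S 31 10 ∨ Test S 43 9 ∨ Test S 17 5
  five : r₀ = 5 → Test S 31 10
  seven : r₀ = 7 → Test S 43 9
  thirteen : r₀ = 13 → Test S 17 5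
  fortyone : r₀ = 41 → Test S 29 9

section no

variable {F : Type v} [Field F] [Fintype F] {n : ℕ} {S : Type u} [Group S]

theorem small_eta {r : ℕ} (hr : r.Prime) (h3 : 3 < r) (h : eta (e3 r) ≤ 4) : r = 5 ∨ r = 7 ∨ r = 13 ∨ r = 41 := by
  have h0 := three_le_e3 hr h3
  have h1 := prim_ee (q := 3) (by norm_num) hr (not_dvd_three h3)
  have h2 : r ∣ 3 ^ (2 * eta (e3 r)) - 1 := by
    refine h1.dvd ?_
    change e3 r ∣ _
    rcases eta_cases (e3 r) with ⟨h4, h5⟩ | ⟨h4, h5⟩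
    · rw [h5, Nat.mul_div_cancel' (Nat.dvd_of_mod_eq_zero h4)]
    · rw [h5]
      exact Dvd.intro_left _ rfl
  have key : ∀ {p : ℕ}, p.Prime → r ∣ p → r = p := fun hp hd => (Nat.prime_dvd_prime_iff_eq hr hp).1 hd
  have key2 : ∀ {a b : ℕ}, r ∣ a * b → r ∣ a ∨ r ∣ b := fun hd => hr.dvd_mul.1 hd
  have key3 : ∀ {k : ℕ}, ¬ r ∣ 2 ^ k := fun {k} hd => by
    have := Nat.le_of_dvd (by norm_num) (hr.dvd_of_dvd_pow hd)
    omega
  have h20 : 2 ≤ eta (e3 r) := by
    have := eta_cases (e3 r)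
    omega
  generalize eta (e3 r) = t at h h2 h20
  interval_cases t
  · rcases key2 (show r ∣ 2 ^ 4 * 5 by simpa using h2) with h4 | h4
    · exact absurd h4 key3
    · exact Or.inl (key (by norm_num) h4)
  · rcases key2 (show r ∣ 2 ^ 3 * (7 * 13) by simpa using h2) with h4 | h4
    · exact absurd h4 key3
    · rcases key2 h4 with h5 | h5
      · exact Or.inr (Or.inl (key (by norm_num) h5))
      · exact Or.inr (Or.inr (Or.inl (key (by norm_num) h5)))
  · rcases key2 (show r ∣ 2 ^ 5 * (5 * 41) by simpa using h2) with h4 | h4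
    · exact absurd h4 key3
    · rcases key2 h4 with h5 | h5
      · exact Or.inl (key (by norm_num) h5)
      · exact Or.inr (Or.inr (Or.inr (key (by norm_num) h5)))

/-- **Elimination of a classical group of characteristic `r₀ ≠ 3`.** -/
theorem SHyp.no_fam (h : SHyp (POmega F (quadFormPlus n F)) S) (hF : Fintype.card F = 3) (hn : 9 ≤ n)
    (h10 : n ≠ 10) (h16 : n ≠ 16) {r₀ : ℕ} (hr : r₀.Prime) (h3 : r₀ ≠ 3) (hfam : Fam S r₀) : False := by
  by_cases h2 : r₀ = 2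
  · rcases hfam.two h2 with h4 | h4 | h4
    · exact h.no_31 hF hn h16 h4
    · exact h.no_43 hF hn h4
    · exact h.no_17 hF hn h10 h4
  have h3' : 3 < r₀ := by
    have := hr.two_le
    omega
  by_cases h5 : 5 ≤ eta (e3 r₀)
  · have hok := h.okc hF (by omega) hr h3' (hfam.dvd h3')
    have h6 := card_TK (n := n) (t := 4) (K := e3 r₀) (by omega) (by omega) hok (by omega)
    obtain ⟨ρ, h7, h8, h9, h11⟩ := h.maxx hF (by omega) hr h3' (hfam.dvd h3') (by omega)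
    have := hfam.own h3' ρ h7 h8 h9
    omega
  · rcases small_eta hr h3' (by omega) with h6 | h6 | h6 | h6
    · exact h.no_31 hF hn h16 (hfam.five h6)
    · exact h.no_43 hF hn (hfam.seven h6)
    · exact h.no_17 hF hn h10 (hfam.thirteen h6)
    · exact h.no_29 hF hn (hfam.fortyone h6)

end no

/-! ### tests from weights -/

section wt

variable {S : Type u} [Group S] {m c : ℕ} {w cls N : ℕ → ℕ}

theorem WC.dvd (h : WC S m c w cls N) (h2 : w 2 = 2) {x : ℕ} (hx : x.Prime) (hx2 : x ≠ 2) (hw : w x + 2 + c ≤ m) :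
    x ∣ Nat.card S := by
  obtain ⟨g, hg⟩ := h.adj x 2 hx Nat.prime_two hx2 (by omega)
  exact (Dvd.intro _ hg.symm : x ∣ orderOf g).trans (orderOf_dvd_natCard g)

theorem WC.test (h : WC S m c w cls N) (h2 : w 2 = 2) {x b : ℕ} (hx : x.Prime) (hx2 : x ≠ 2) (hw : w x + 2 + c ≤ m)
    (hb : 1 + N (m - c - w x) ≤ b) : Test S x b :=
  ⟨h.dvd h2 hx hx2 hw, fun _ hρ h3 hxρ => (h.thru hρ h3 hxρ hw).trans hb⟩

end wt

theorem dvd_pow_sub {x r₀ a f : ℕ} (h : x ∣ r₀ ^ a - 1) : x ∣ (r₀ ^ f) ^ a - 1 := by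
  refine h.trans ?_
  rw [← pow_mul, mul_comm, pow_mul]
  exact Nat.sub_one_dvd_pow_sub_one _ _

theorem not_dvd_prime_pow {x r₀ f : ℕ} (hx : x.Prime) (hr : r₀.Prime) (h : x ≠ r₀) : ¬ x ∣ r₀ ^ f := fun hd =>
  h ((Nat.prime_dvd_prime_iff_eq hx hr).1 (hx.dvd_of_dvd_pow hd))

/-! ### `PSL_m(q)` -/

theorem wL_le {q x a : ℕ} (hq : 1 ≤ q) (ha : 2 ≤ a) (h : x ∣ q ^ a - 1) : AdjPSL.wL q x ≤ a := by
  rw [AdjPSL.wL]
  split_ifs with h1
  · exact ha
  · exact Nat.le_of_dvd (by omega) (AdjOrth.ee_dvd hq h)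

theorem wL_two {q : ℕ} : AdjPSL.wL q 2 = 2 := by
  rw [AdjPSL.wL, if_pos]
  rcases Nat.even_or_odd' q with ⟨k, hk | hk⟩ <;> omega

theorem wL_own {r₀ f : ℕ} (hf : f ≠ 0) : AdjPSL.wL (r₀ ^ f) r₀ = 2 := by
  rw [AdjPSL.wL, if_pos (Or.inl (dvd_pow_self _ hf))]

theorem fam_psl {S : Type u} [Group S] {F : Type*} [Field F] [Fintype F] {m r₀ f : ℕ} (hr : r₀.Prime) (hf : f ≠ 0)
    (hF : Fintype.card F = r₀ ^ f) (e : S ≃* Matrix.ProjectiveSpecialLinearGroup (Fin m) F) (hm : 9 ≤ m) : Fam S r₀ := by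
  have hW := (wc_psl (F := F) (n := m) (by omega)).congr e
  rw [hF] at hW
  have hq : 1 ≤ r₀ ^ f := Nat.one_le_pow _ _ hr.pos
  have key : ∀ {x a b : ℕ}, x.Prime → x ≠ 2 → 2 ≤ a → a ≤ 6 → a + 1 ≤ b → x ∣ r₀ ^ a - 1 → Test S x b := by
    intro x a b hx hx2 ha ha6 hb hd
    have h1 := wL_le hq ha (dvd_pow_sub (f := f) hd)
    exact hW.test wL_two hx hx2 (by omega) (by omega)
  refine ⟨fun h3 => hW.dvd wL_two hr (by omega) (by rw [wL_own hf]; omega), ?_, ?_, ?_, ?_, ?_, ?_⟩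
  · intro h3 ρ hρ h4 hx
    have h5 := hW.thru hρ h4 hx (by rw [wL_own hf]; omega)
    rw [wL_own hf] at h5
    omega
  · rintro rfl
    exact Or.inl (key (a := 5) (by norm_num) (by norm_num) (by norm_num) (by norm_num) (by norm_num) (by norm_num))
  · rintro rfl
    exact key (a := 3) (by norm_num) (by norm_num) (by norm_num) (by norm_num) (by norm_num) (by norm_num)
  · rintro rfl
    exact key (a := 6) (by norm_num) (by norm_num) (by norm_num) (by norm_num) (by norm_num) (by norm_num)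
  · rintro rfl
    exact key (a := 4) (by norm_num) (by norm_num) (by norm_num) (by norm_num) (by norm_num) (by norm_num)
  · rintro rfl
    exact key (a := 4) (by norm_num) (by norm_num) (by norm_num) (by norm_num) (by norm_num) (by norm_num)

/-! ### `PSU_m(q)` -/

theorem wU_le {q x a : ℕ} (ha : 2 ≤ a) (h : (-(q : ZMod x)) ^ a = 1) : AdjPSU.wU q x ≤ a := by
  rw [AdjPSU.wU]
  split_ifs with h1
  · exact ha
  · exact orderOf_le_of_pow_eq_one (by omega) h

theorem wU_two {q : ℕ} : AdjPSU.wU q 2 = 2 := by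
  rw [AdjPSU.wU, if_pos]
  rcases Nat.even_or_odd' q with ⟨k, hk | hk⟩ <;> omega

theorem wU_own {r₀ f : ℕ} (hf : f ≠ 0) : AdjPSU.wU (r₀ ^ f) r₀ = 2 := by
  rw [AdjPSU.wU, if_pos (Or.inl (dvd_pow_self _ hf))]

theorem neg_pow_even {q x a : ℕ} (hq : 1 ≤ q) (ha : Even a) (h : x ∣ q ^ a - 1) : (-(q : ZMod x)) ^ a = 1 := by
  rw [ha.neg_pow]
  have h1 : ((q ^ a - 1 : ℕ) : ZMod x) = 0 := (ZMod.natCast_eq_zero_iff _ _).2 h
  rw [Nat.cast_sub (Nat.one_le_pow _ _ hq), Nat.cast_pow, Nat.cast_one, sub_eq_zero] at h1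
  exact h1

theorem fam_psu {S : Type u} [Group S] {F : Type*} [Field F] [Fintype F] {m r₀ f : ℕ} (hr : r₀.Prime) (hf : f ≠ 0)
    (hF : Fintype.card F = (r₀ ^ f) ^ 2) (e : S ≃* PSU m F (r₀ ^ f)) (hm : 9 ≤ m) : Fam S r₀ := by
  have hW := (wc_psu hF (n := m) (by omega)).congr e
  have hq : 1 ≤ r₀ ^ f := Nat.one_le_pow _ _ hr.pos
  have key0 : ∀ {x a b : ℕ}, x.Prime → x ≠ 2 → 2 ≤ a → a ≤ 7 → a + 1 ≤ b → (-((r₀ ^ f : ℕ) : ZMod x)) ^ a = 1 →
      Test S x b := by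
    intro x a b hx hx2 ha ha6 hb hd
    have h1 := wU_le ha hd
    exact hW.test wU_two hx hx2 (by omega) (by omega)
  have key : ∀ {x a b : ℕ}, x.Prime → x ≠ 2 → 2 ≤ a → a ≤ 7 → a + 1 ≤ b → Even a → x ∣ r₀ ^ a - 1 → Test S x b := by
    intro x a b hx hx2 ha ha6 hb hae hd
    exact key0 hx hx2 ha ha6 hb (neg_pow_even hq hae (dvd_pow_sub (f := f) hd))
  refine ⟨fun h3 => hW.dvd wU_two hr (by omega) (by rw [wU_own hf]; omega), ?_, ?_, ?_, ?_, ?_, ?_⟩
  · intro h3 ρ hρ h4 hx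
    have h5 := hW.thru hρ h4 hx (by rw [wU_own hf]; omega)
    rw [wU_own hf] at h5
    omega
  · rintro rfl
    right
    rcases Nat.even_or_odd' f with ⟨k, hk | hk⟩
    · right
      refine key0 (a := 4) (by norm_num) (by norm_num) (by norm_num) (by norm_num) (by norm_num)
        (neg_pow_even hq (by decide) ?_)
      rw [← pow_mul, hk, show 2 * k * 4 = 8 * k by ring, pow_mul]
      exact (by norm_num : (17 : ℕ) ∣ 2 ^ 8 - 1).trans (Nat.sub_one_dvd_pow_sub_one _ _)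
    · left
      refine key0 (a := 7) (by norm_num) (by norm_num) (by norm_num) (by norm_num) (by norm_num) ?_
      have h1 : ((-2 : ZMod 43)) ^ 7 = 1 := by decide
      have h2 : Odd f := ⟨k, hk⟩
      have h4 : (-((2 ^ f : ℕ) : ZMod 43)) = (-2) ^ f := by
        rw [h2.neg_pow]
        push_cast
        ring
      rw [h4, ← pow_mul, mul_comm, pow_mul, h1, one_pow]
  · rintro rfl
    exact key (a := 6) (by norm_num) (by norm_num) (by norm_num) (by norm_num) (by norm_num) (by decide) (by norm_num)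
  · rintro rfl
    exact key (a := 6) (by norm_num) (by norm_num) (by norm_num) (by norm_num) (by norm_num) (by decide) (by norm_num)
  · rintro rfl
    exact key (a := 4) (by norm_num) (by norm_num) (by norm_num) (by norm_num) (by norm_num) (by decide) (by norm_num)
  · rintro rfl
    exact key (a := 4) (by norm_num) (by norm_num) (by norm_num) (by norm_num) (by norm_num) (by decide) (by norm_num)

/-! ### the symplectic and orthogonal groups -/

theorem wO_le {q x i : ℕ} (hq : 1 ≤ q) (hi : 2 ≤ i) (h : x ∣ q ^ (2 * i) - 1) : AdjOrth.wO q x ≤ i := by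
  rw [AdjOrth.wO]
  split_ifs with h1
  · exact hi
  · exact AdjCoc.eta_two_mul hq (by omega) h

theorem wO_two {q : ℕ} : AdjOrth.wO q 2 = 2 := by
  rw [AdjOrth.wO, if_pos (Or.inl rfl)]

theorem wO_own {r₀ f : ℕ} (hf : f ≠ 0) : AdjOrth.wO (r₀ ^ f) r₀ = 2 := by
  rw [AdjOrth.wO, if_pos (Or.inr (dvd_pow_self _ hf))]

/-- the tests for the symplectic and orthogonal groups -/
theorem tests_wO {S : Type u} [Group S] {m c r₀ f : ℕ} {N : ℕ → ℕ} (hr : r₀.Prime)
    (hW : WC S m c (AdjOrth.wO (r₀ ^ f)) (AdjOrth.ee (r₀ ^ f)) N) (hm : 5 + c ≤ m)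
    (h3 : ∀ w, w ≤ 3 → 1 + N (m - c - w) ≤ 9) (h2 : ∀ w, w ≤ 2 → 1 + N (m - c - w) ≤ 5) :
    (r₀ = 5 → Test S 31 10) ∧ (r₀ = 7 → Test S 43 9) ∧ (r₀ = 13 → Test S 17 5) ∧ (r₀ = 41 → Test S 29 9) := by
  have hq : 1 ≤ r₀ ^ f := Nat.one_le_pow _ _ hr.pos
  have key3 : ∀ {x b : ℕ}, x.Prime → x ≠ 2 → 9 ≤ b → x ∣ r₀ ^ (2 * 3) - 1 → Test S x b := by
    intro x b hx hx2 hb hd
    have h1 := wO_le hq (by norm_num) (dvd_pow_sub (f := f) hd)
    exact hW.test wO_two hx hx2 (by omega) ((h3 _ h1).trans hb)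
  have key2 : ∀ {x b : ℕ}, x.Prime → x ≠ 2 → 5 ≤ b → x ∣ r₀ ^ (2 * 2) - 1 → Test S x b := by
    intro x b hx hx2 hb hd
    have h1 := wO_le hq (by norm_num) (dvd_pow_sub (f := f) hd)
    exact hW.test wO_two hx hx2 (by omega) ((h2 _ h1).trans hb)
  refine ⟨?_, ?_, ?_, ?_⟩
  · rintro rfl
    exact key3 (by norm_num) (by norm_num) (by norm_num) (by norm_num)
  · rintro rfl
    exact key3 (by norm_num) (by norm_num) (by norm_num) (by norm_num)
  · rintro rfl
    exact key2 (by norm_num) (by norm_num) (by norm_num) (by norm_num)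
  · rintro rfl
    exact key2 (by norm_num) (by norm_num) (by norm_num) (by norm_num)

theorem fam_sp {S : Type u} [Group S] {F : Type*} [Field F] [Fintype F] {m r₀ f : ℕ} (hr : r₀.Prime) (hf : f ≠ 0)
    (hF : Fintype.card F = r₀ ^ f) (hW : WC S m 0 (AdjOrth.wO (Nat.card F)) (AdjOrth.ee (Nat.card F))
      (fun w₀ => (m - w₀) + ((m + 1) / 2 - (w₀ + 1) / 2))) (hd : ∀ x : ℕ, x.Prime → 3 < x → x ∣ r₀ ^ (2 * 5) - 1 →
      x ∣ Nat.card S) (hm : 5 ≤ m) : Fam S r₀ := by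
  rw [Nat.card_eq_fintype_card, hF] at hW
  have hq : 1 ≤ r₀ ^ f := Nat.one_le_pow _ _ hr.pos
  obtain ⟨h1, h2, h3, h4⟩ := tests_wO hr hW (by omega) (fun w hw => by omega)
    (fun w hw => by omega)
  refine ⟨fun h3 => hW.dvd wO_two hr (by omega) (by rw [wO_own hf]; omega), ?_, ?_, h1, h2, h3, h4⟩
  · intro h3 ρ hρ h4 hx
    have h5 := hW.thru hρ h4 hx (by rw [wO_own hf]; omega)
    rw [wO_own hf] at h5
    omega
  · rintro rfl
    left
    by_cases h7 : 7 ≤ m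
    · have h1 := wO_le hq (by norm_num) (dvd_pow_sub (f := f) (show 31 ∣ 2 ^ (2 * 5) - 1 by norm_num))
      refine hW.test wO_two (by norm_num) (by norm_num) (by omega) ?_
      omega
    · refine ⟨hd 31 (by norm_num) (by norm_num) (by norm_num), fun ρ hρ h3 hx => ?_⟩
      have := hW.half hρ h3 (by omega)
      omega

/-- `PΩ⁺` and `PΩ⁻` -/
theorem fam_pm {S : Type u} [Group S] {m r₀ f : ℕ} (hr : r₀.Prime) (hf : f ≠ 0) {N : ℕ → ℕ}
    (hW : WC S m 1 (AdjOrth.wO (r₀ ^ f)) (AdjOrth.ee (r₀ ^ f)) N)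
    (hN : ∀ w₀, N w₀ ≤ (m - 1 - w₀) + (m / 2 - (w₀ + 1) / 2) + 1)
    (hchar : 3 < r₀ → ∀ s : ℕ, s.Prime → 3 < s → s ≠ r₀ → AdjOrth.eta (AdjOrth.ee (r₀ ^ f) s) + 2 ≤ m →
      ∃ g : S, orderOf g = r₀ * s)
    (hd : ∀ x : ℕ, x.Prime → 3 < x → x ∣ r₀ ^ (2 * 5) - 1 → x ∣ Nat.card S) (hm : 6 ≤ m) : Fam S r₀ := by
  have hq : 1 ≤ r₀ ^ f := Nat.one_le_pow _ _ hr.pos
  obtain ⟨h1, h2, h3, h4⟩ := tests_wO hr hW (by omega) (fun w hw => by have := hN (m - 1 - w); omega)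
    (fun w hw => by have := hN (m - 1 - w); omega)
  refine ⟨fun h3 => hW.dvd wO_two hr (by omega) (by rw [wO_own hf]; omega), ?_, ?_, h1, h2, h3, h4⟩
  · intro h3 ρ hρ h4 hx
    have h5 : (ρ.erase r₀).card ≤ N (m - 2) := by
      refine hW.card_le (hρ.subset (Finset.erase_subset _ _)) (fun r hr => h4 r (Finset.mem_of_mem_erase hr))
        (by omega) ?_
      intro s hs
      obtain ⟨hs1, hs2⟩ := Finset.mem_erase.1 hs
      have h6 : ¬ s ∣ r₀ ^ f := not_dvd_prime_pow (hρ.prime s hs2) hr hs1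
      have h7 : AdjOrth.wO (r₀ ^ f) s = AdjOrth.eta (AdjOrth.ee (r₀ ^ f) s) := by
        rw [AdjOrth.wO, if_neg]
        rintro (h8 | h8)
        · have := h4 s hs2
          omega
        · exact h6 h8
      rw [h7]
      by_contra hlt
      exact hρ.nadj r₀ hx s hs2 (Ne.symm hs1) (hchar h3 s (hρ.prime s hs2) (h4 s hs2) hs1 (by omega))
    rw [Finset.card_erase_of_mem hx] at h5
    have := hN (m - 2)
    omega
  · rintro rfl
    left
    by_cases h7 : 8 ≤ m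
    · have h1 := wO_le hq (by norm_num) (dvd_pow_sub (f := f) (show 31 ∣ 2 ^ (2 * 5) - 1 by norm_num))
      refine hW.test wO_two (by norm_num) (by norm_num) (by omega) ?_
      have := hN (m - 1 - AdjOrth.wO (2 ^ f) 31)
      omega
    · refine ⟨hd 31 (by norm_num) (by norm_num) (by norm_num), fun ρ hρ h3 hx => ?_⟩
      have := hW.half hρ h3 (by omega)
      have := hN ((m - 1) / 2)
      omega

end Cfsg.Agent.H420.QR
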