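import Cfsg.Agent.H420.FixQuad

/-!
# Isometries of a quadratic form of plus type in dimension 8 over the field with three elements

`Dat Q` : `|F| = 3`, dimension 8, nondegenerate, `2241` singular vectors (zero included).
There are no commuting isometries of orders `7, 13`, of orders `5, 13`, or of orders `3, 7`.
-/

set_option autoImplicit false

namespace Cfsg.Agent.H420.OEightThree

open Module QuadraticMap Cfsg.Agent.H420.Fix

variable {F : Type*} [Field F] {V : Type*} [AddCommGroup V] [Module F V] [Finite V]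

structure Dat (Q : QuadraticForm F V) : Prop where
  card : Nat.card F = 3
  dim : finrank F V = 8
  nondeg : ∀ x : V, (∀ y : V, polar Q x y = 0) → x = 0
  zeros : Nat.card {v : V | Q v = 0} = 2241
  ones : Nat.card {v : V | Q v = 1} = 2160

variable {Q : QuadraticForm F V}

theorem Dat.two (h : Dat Q) : (2 : F) ≠ 0 := by
  intro h2
  have hF : Finite F := Nat.finite_of_card_ne_zero (by rw [h.card]; norm_num)
  have h3 : ((3 : ℕ) : F) = 0 := by
    rw [← h.card]
    have := Fintype.ofFinite F
    rw [Nat.card_eq_fintype_card]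
    exact Nat.cast_card_eq_zero F
  have h1 : (1 : F) = 0 := by
    push_cast at h3
    linear_combination h3 - h2
  exact one_ne_zero h1

theorem Dat.three (h : Dat Q) : (3 : F) = 0 := by
  have hF : Finite F := Nat.finite_of_card_ne_zero (by rw [h.card]; norm_num)
  have h3 : ((3 : ℕ) : F) = 0 := by
    rw [← h.card]
    have := Fintype.ofFinite F
    rw [Nat.card_eq_fintype_card]
    exact Nat.cast_card_eq_zero F
  exact_mod_cast h3

theorem Dat.card_sub (h : Dat Q) (W : Submodule F V) : Nat.card W = 3 ^ finrank F W := by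
  rw [card_eq_pow, h.card]

theorem Dat.le_eight (h : Dat Q) (W : Submodule F V) : finrank F W ≤ 8 := by
  rw [← h.dim]
  exact Submodule.finrank_le W

theorem Dat.lt_eight (h : Dat Q) {a : Module.End F V} (ha : a ≠ 1) : finrank F (fx a) ≤ 7 := by
  by_contra hc
  have h1 := h.le_eight (fx a)
  have h2 : finrank F (fx a) = finrank F V := by rw [h.dim]; omega
  exact ha (eq_one_of_fx_eq_top (Submodule.eq_top_of_finrank_eq h2))

theorem Dat.cardV (h : Dat Q) : Nat.card V = 6561 := by
  have h1 : Nat.card (⊤ : Submodule F V) = 3 ^ finrank F (⊤ : Submodule F V) := h.card_sub _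
  rw [finrank_top, h.dim] at h1
  rw [← Nat.card_congr (Equiv.Set.univ V)]
  exact h1

/-- fixed spaces on invariant subspaces -/
theorem Dat.mod (h : Dat Q) {r : ℕ} [Fact r.Prime] {a : Module.End F V} (ha : a ^ r = 1) (W : Submodule F V)
    (hW : ∀ v ∈ W, a v ∈ W) : 3 ^ finrank F W ≡ 3 ^ finrank F ↥(W ⊓ fx a) [MOD r] := by
  have h1 := card_sub_modEq (r := r) (n := 1) (by rwa [pow_one]) W hW
  rwa [h.card_sub, h.card_sub] at h1

theorem Dat.modV (h : Dat Q) {r : ℕ} [Fact r.Prime] {a : Module.End F V} (ha : a ^ r = 1) :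
    3 ^ 8 ≡ 3 ^ finrank F (fx a) [MOD r] := by
  have h1 := h.mod ha ⊤ (fun v _ => Submodule.mem_top)
  rwa [finrank_top, h.dim, top_inf_eq] at h1

/-- singular vectors in the fixed space -/
theorem Dat.sing (h : Dat Q) {r : ℕ} [Fact r.Prime] {a : Module.End F V} (ha : a ^ r = 1) (hq : ∀ v, Q (a v) = Q v) :
    2241 ≡ Nat.card ({v : V | Q v = 0} ∩ fx a : Set V) [MOD r] := by
  have h1 := card_modEq (r := r) (n := 1) (by rwa [pow_one]) {v : V | Q v = 0} (fun v hv => by
    change Q (a v) = 0
    rw [hq]; exact hv)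
  rwa [h.zeros] at h1

theorem card_inter_le (S : Set V) (W : Submodule F V) : Nat.card (S ∩ W : Set V) ≤ Nat.card W := by
  exact Nat.card_mono (Set.toFinite (W : Set V)) Set.inter_subset_right

instance fact13 : Fact (Nat.Prime 13) := ⟨by norm_num⟩
instance fact7 : Fact (Nat.Prime 7) := ⟨by norm_num⟩
instance fact5 : Fact (Nat.Prime 5) := ⟨by norm_num⟩

theorem Dat.seven (h : Dat Q) {b : Module.End F V} (hb : b ^ 7 = 1) (hb1 : b ≠ 1) :
    finrank F (fx b) = 2 := by
  have h1 := h.modV hb
  have h2 := h.lt_eight hb1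
  generalize finrank F (fx b) = i at h1 h2
  interval_cases i <;> first | rfl | (exfalso; revert h1; decide)

/-- **The operators of order 13 have fixed space of dimension two.** -/
theorem Dat.thirteen (h : Dat Q) {a : Module.End F V} (ha : a ^ 13 = 1) (ha1 : a ≠ 1) (hq : ∀ v, Q (a v) = Q v) :
    finrank F (fx a) = 2 := by
  have h1 := h.modV ha
  have h2 := h.lt_eight ha1
  have h3 : finrank F (fx a) = 2 ∨ finrank F (fx a) = 5 := by
    generalize finrank F (fx a) = i at h1 h2
    interval_cases i <;> first | (left; rfl) | (right; rfl) | (exfalso; revert h1; decide)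
  rcases h3 with h3 | h3
  · exact h3
  exfalso
  have h13 : ((13 : ℕ) : F) ≠ 0 := by
    have : ((13 : ℕ) : F) = 1 := by
      push_cast
      linear_combination 4 * h.three
    rw [this]; exact one_ne_zero
  -- the moved part has 27 vectors
  have h4 : finrank F (mv a) = 3 := by
    have h5 := LinearMap.finrank_range_add_finrank_ker (a - 1)
    change finrank F (mv a) + finrank F (fx a) = _ at h5
    rw [h3, h.dim] at h5
    omega
  have h5 : Nat.card (mv a) = 27 := by rw [h.card_sub, h4]; norm_num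
  have h6 : Nat.card ((mv a : Set V) \ {0} : Set V) = 26 := by
    rw [Nat.card_coe_set_eq, Set.ncard_sdiff_singleton_of_mem (mv a).zero_mem]
    have : (mv a : Set V).ncard = 27 := by
      rw [← Nat.card_coe_set_eq]; exact h5
    rw [this]
  -- the form is constant
  have key : ∀ w ∈ mv a, w ≠ 0 → ∀ v ∈ mv a, v ≠ 0 → Q v = Q w := by
    intro w hw hw0
    set S : Set V := {v | v ∈ mv a ∧ v ≠ 0 ∧ Q v = Q w} with hS
    have s1 : Nat.card S ≡ 0 [MOD 13] := by
      have s2 := card_modEq (r := 13) (n := 1) (by rwa [pow_one]) S (by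
        rintro v ⟨v1, v2, v3⟩
        refine ⟨map_mem_mv v1, ?_, by rw [hq, v3]⟩
        intro v4
        apply v2
        have : v = (a ^ 13) v := by rw [ha]; rfl
        rw [this, show (13 : ℕ) = 12 + 1 from rfl, pow_succ, Module.End.mul_apply, v4, map_zero])
      have s3 : (S ∩ fx a : Set V) = ∅ := by
        ext v
        simp only [Set.mem_inter_iff, Set.mem_empty_iff_false, iff_false]
        rintro ⟨⟨v1, v2, v3⟩, v4⟩
        exact v2 (disj ha h13 v1 v4)
      rw [s3] at s2
      simpa using s2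
    have s4 : Nat.card S ≡ 0 [MOD 2] := by
      have s5 := card_modEq' (X := S) (r := 2) (n := 1)
        (fun v => ⟨-v.1, (mv a).neg_mem v.2.1, neg_ne_zero.2 v.2.2.1, by rw [QuadraticMap.map_neg]; exact v.2.2.2⟩) (by
          funext v
          apply Subtype.ext
          simp)
      have s6 : IsEmpty {x : S // (⟨-x.1, (mv a).neg_mem x.2.1, neg_ne_zero.2 x.2.2.1, by
          rw [QuadraticMap.map_neg]; exact x.2.2.2⟩ : S) = x} := by
        constructor
        rintro ⟨x, hx⟩
        have h7 : -x.1 = x.1 := congrArg Subtype.val hx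
        apply x.2.2.1
        have h8 : (2 : F) • x.1 = 0 := by
          rw [two_smul]
          nth_rewrite 1 [← h7]
          exact neg_add_cancel _
        exact (smul_eq_zero.1 h8).resolve_left h.two
      rw [Nat.card_of_isEmpty (α := {x : S // _})] at s5
      exact s5
    have s7 : S ⊆ (mv a : Set V) \ {0} := fun v hv => ⟨hv.1, hv.2.1⟩
    have s8 : 0 < Nat.card S := by
      have : Nonempty S := ⟨⟨w, hw, hw0, rfl⟩⟩
      exact Nat.card_pos
    have s9 : 26 ∣ Nat.card S := by
      have := Nat.Coprime.mul_dvd_of_dvd_of_dvd (by norm_num : Nat.Coprime 13 2) ((Nat.modEq_zero_iff_dvd).1 s1)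
        ((Nat.modEq_zero_iff_dvd).1 s4)
      simpa using this
    have s10 : S = (mv a : Set V) \ {0} := by
      apply Set.eq_of_subset_of_ncard_le s7
      rw [← Nat.card_coe_set_eq, ← Nat.card_coe_set_eq, h6]
      exact Nat.le_of_dvd s8 s9
    intro v hv hv0
    have : v ∈ S := by rw [s10]; exact ⟨hv, hv0⟩
    exact this.2.2
  obtain ⟨w, hw, hw0⟩ : ∃ w ∈ mv a, w ≠ 0 := by
    by_contra hc
    push Not at hc
    apply ha1
    ext v
    exact sub_eq_zero.1 (hc _ (sub_mem_mv a v))
  -- `w`, `a w` independent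
  have t1 : a w ≠ 0 := by
    intro v4
    apply hw0
    have : w = (a ^ 13) w := by rw [ha]; rfl
    rw [this, show (13 : ℕ) = 12 + 1 from rfl, pow_succ, Module.End.mul_apply, v4, map_zero]
  have t2 : w + a w ≠ 0 := by
    intro t
    have t3 : a w = - w := (neg_eq_of_add_eq_zero_right t).symm
    have t4 : ∀ k : ℕ, (a ^ k) w = (-1 : F) ^ k • w := by
      intro k
      induction k with
      | zero => simp
      | succ k ih =>
        rw [pow_succ', Module.End.mul_apply, ih, map_smul, t3, pow_succ, smul_neg, mul_neg_one, neg_smul]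
    have t5 := t4 13
    rw [ha, show ((-1 : F) ^ 13) = -1 from by norm_num, neg_one_smul] at t5
    have h8 : (2 : F) • w = 0 := by
      rw [two_smul]
      change w = -w at t5
      nth_rewrite 1 [t5]
      exact neg_add_cancel _
    exact hw0 ((smul_eq_zero.1 h8).resolve_left h.two)
  have t6 : w - a w ≠ 0 := by
    intro t
    exact hw0 (disj ha h13 hw (mem_fx.2 (sub_eq_zero.1 t).symm))
  have t7 : Q w = 0 := zero_of_const h.two (fun v hv hv0 => key w hw hw0 v hv hv0) hw (map_mem_mv hw) hw0 t1 t2 t6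
  have t8 : ∀ v ∈ mv a, Q v = 0 := by
    intro v hv
    by_cases hv0 : v = 0
    · rw [hv0, QuadraticMap.map_zero]
    · rw [key w hw hw0 v hv hv0, t7]
  apply hw0
  apply h.nondeg
  apply rad_of_perp hq ha h13 hw
  intro x hx
  rw [polar, t8 _ ((mv a).add_mem hw hx), t8 _ hw, t8 _ hx]
  ring

theorem comm_inf {a b : Module.End F V} (hab : a * b = b * a) : ∀ v ∈ fx b, a v ∈ fx b :=
  fun _ hv => comm_mem_fx hab hv

/-- **No commuting isometries of orders 7 and 13.** -/
theorem Dat.no91 (h : Dat Q) {a b : Module.End F V} (ha : a ^ 13 = 1) (hb : b ^ 7 = 1) (ha1 : a ≠ 1) (hb1 : b ≠ 1)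
    (hab : a * b = b * a) (hqa : ∀ v, Q (a v) = Q v) (hqb : ∀ v, Q (b v) = Q v) : False := by
  have h1 := h.thirteen ha ha1 hqa
  have h2 := h.seven hb hb1
  -- `a` is trivial on `fx b`
  have h3 : fx b ≤ fx a := by
    have h4 := h.mod ha (fx b) (comm_inf hab)
    rw [h2] at h4
    have h5 : finrank F ↥(fx b ⊓ fx a) ≤ 2 := by
      rw [← h2]; exact Submodule.finrank_mono inf_le_left
    have h6 : finrank F ↥(fx b ⊓ fx a) = 2 := by
      generalize finrank F ↥(fx b ⊓ fx a) = i at h4 h5
      interval_cases i <;> first | rfl | (exfalso; revert h4; decide)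
    have h7 : fx b ⊓ fx a = fx b := Submodule.eq_of_le_of_finrank_eq inf_le_left (by rw [h6, h2])
    exact inf_eq_left.1 h7
  have h4 : fx b = fx a := Submodule.eq_of_le_of_finrank_eq h3 (by rw [h1, h2])
  have h5 := h.sing ha hqa
  have h6 := h.sing hb hqb
  have h7 := card_inter_le {v : V | Q v = 0} (fx a)
  rw [h.card_sub, h1] at h7
  rw [h4] at h6
  generalize Nat.card ({v : V | Q v = 0} ∩ fx a : Set V) = s at h5 h6 h7
  norm_num at h7
  interval_cases s <;> first | (revert h5; decide) | (revert h6; decide)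

/-- **No commuting isometries of orders 5 and 13.** -/
theorem Dat.no65 (h : Dat Q) {a b : Module.End F V} (ha : a ^ 13 = 1) (hb : b ^ 5 = 1) (ha1 : a ≠ 1) (hb1 : b ≠ 1)
    (hab : a * b = b * a) (hqa : ∀ v, Q (a v) = Q v) : False := by
  have h1 := h.thirteen ha ha1 hqa
  have h2 : finrank F (fx b) = 0 ∨ finrank F (fx b) = 4 := by
    have h3 := h.modV hb
    have h4 := h.lt_eight hb1
    generalize finrank F (fx b) = i at h3 h4
    interval_cases i <;> first | (left; rfl) | (right; rfl) | (exfalso; revert h3; decide)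
  -- `b` is trivial on `fx a`
  have h3 : fx a ≤ fx b := by
    have h4 := h.mod hb (fx a) (comm_inf hab.symm)
    rw [h1] at h4
    have h5 : finrank F ↥(fx a ⊓ fx b) ≤ 2 := by
      rw [← h1]; exact Submodule.finrank_mono inf_le_left
    have h6 : finrank F ↥(fx a ⊓ fx b) = 2 := by
      generalize finrank F ↥(fx a ⊓ fx b) = i at h4 h5
      interval_cases i <;> first | rfl | (exfalso; revert h4; decide)
    have h7 : fx a ⊓ fx b = fx a := Submodule.eq_of_le_of_finrank_eq inf_le_left (by rw [h6, h1])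
    exact inf_eq_left.1 h7
  have h4 : finrank F (fx b) = 4 := by
    have := Submodule.finrank_mono (R := F) h3
    rw [h1] at this
    omega
  have h5 := h.mod ha (fx b) (comm_inf hab)
  rw [inf_eq_right.2 h3, h1, h4] at h5
  revert h5
  decide

/-- **No commuting isometries of orders 7 and 3.** -/
theorem Dat.no21 (h : Dat Q) {b u : Module.End F V} (hb : b ^ 7 = 1) (hu : u ^ 3 = 1) (hb1 : b ≠ 1) (hu1 : u ≠ 1)
    (hab : b * u = u * b) (hqb : ∀ v, Q (b v) = Q v) (hqu : ∀ v, Q (u v) = Q v) : False := by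
  have h2 := h.seven hb hb1
  have : Fact (Nat.Prime 3) := ⟨by norm_num⟩
  -- `s` vectors of norm zero, `t` vectors of norm one in `fx b`
  have h3 := h.sing hb hqb
  have hinv : ∀ c : F, ∀ v ∈ ({v : V | Q v = c} ∩ fx b : Set V), u v ∈ ({v : V | Q v = c} ∩ fx b : Set V) := by
    rintro c v ⟨h4, h5⟩
    exact ⟨(hqu v).trans h4, comm_mem_fx hab.symm h5⟩
  have h7 := card_inter_le {v : V | Q v = 0} (fx b)
  rw [h.card_sub, h2] at h7
  have o3 : 2160 ≡ Nat.card ({v : V | Q v = 1} ∩ fx b : Set V) [MOD 7] := by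
    have h1 := card_modEq (r := 7) (n := 1) (by rwa [pow_one]) {v : V | Q v = 1} (fun v hv => by
      change Q (b v) = 1
      rw [hqb]; exact hv)
    rwa [h.ones] at h1
  have o7 := card_inter_le {v : V | Q v = 1} (fx b)
  rw [h.card_sub, h2] at o7
  have o8 : Nat.card ({v : V | Q v = 1} ∩ fx b : Set V) = 4 := by
    generalize Nat.card ({v : V | Q v = 1} ∩ fx b : Set V) = s at o3 o7
    norm_num at o7
    interval_cases s <;> first | rfl | (exfalso; revert o3; decide)
  -- `u` fixes the vectors of norm one in `fx b`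
  have o9 : Nat.card ({v : V | Q v = 1} ∩ fx b ∩ fx u : Set V) = 4 := by
    have p1 := card_modEq (r := 3) (n := 1) (by rwa [pow_one]) ({v : V | Q v = 1} ∩ fx b) (hinv 1)
    rw [o8] at p1
    have p2 : Nat.card ({v : V | Q v = 1} ∩ fx b ∩ fx u : Set V) ≤ 4 := by
      rw [← o8]
      exact Nat.card_mono (Set.toFinite _) Set.inter_subset_left
    have p3 : Nat.card ({v : V | Q v = 1} ∩ fx b ∩ fx u : Set V) ≡ 0 [MOD 2] := by
      have hn : ∀ v ∈ ({v : V | Q v = 1} ∩ fx b ∩ fx u : Set V), -v ∈ ({v : V | Q v = 1} ∩ fx b ∩ fx u : Set V) := by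
        rintro v ⟨⟨v1, v2⟩, v3⟩
        exact ⟨⟨by change Q (-v) = 1; rw [QuadraticMap.map_neg]; exact v1, (fx b).neg_mem v2⟩, (fx u).neg_mem v3⟩
      have s5 := card_modEq' (X := ({v : V | Q v = 1} ∩ fx b ∩ fx u : Set V)) (r := 2) (n := 1)
        (fun v => ⟨-v.1, hn v.1 v.2⟩) (by
          funext v
          apply Subtype.ext
          simp)
      have s6 : IsEmpty {x : ({v : V | Q v = 1} ∩ fx b ∩ fx u : Set V) // (⟨-x.1, hn x.1 x.2⟩ :
          ({v : V | Q v = 1} ∩ fx b ∩ fx u : Set V)) = x} := by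
        constructor
        rintro ⟨x, hx⟩
        have h7 : -x.1 = x.1 := congrArg Subtype.val hx
        have h8 : (2 : F) • x.1 = 0 := by
          rw [two_smul]
          nth_rewrite 1 [← h7]
          exact neg_add_cancel _
        have h9 : x.1 = 0 := (smul_eq_zero.1 h8).resolve_left h.two
        have h10 : Q x.1 = 1 := x.2.1.1
        rw [h9, QuadraticMap.map_zero] at h10
        exact zero_ne_one h10
      rw [Nat.card_of_isEmpty (α := {x : ({v : V | Q v = 1} ∩ fx b ∩ fx u : Set V) // _})] at s5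
      exact s5
    generalize Nat.card ({v : V | Q v = 1} ∩ fx b ∩ fx u : Set V) = s at p1 p2 p3
    interval_cases s <;> first | rfl | (exfalso; revert p1; decide) | (exfalso; revert p3; decide)
  -- hence `u` is trivial on `fx b`
  have q1 : fx b ≤ fx u := by
    have q2 : finrank F ↥(fx b ⊓ fx u) ≤ 2 := by
      rw [← h2]; exact Submodule.finrank_mono inf_le_left
    have q3 : 5 ≤ Nat.card ↥(fx b ⊓ fx u) := by
      have q4 : insert (0 : V) ({v : V | Q v = 1} ∩ fx b ∩ fx u) ⊆ ((fx b ⊓ fx u : Submodule F V) : Set V) := by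
        rintro v (rfl | ⟨⟨_, v2⟩, v3⟩)
        · exact (fx b ⊓ fx u).zero_mem
        · exact ⟨v2, v3⟩
      have q5 : (0 : V) ∉ ({v : V | Q v = 1} ∩ fx b ∩ fx u : Set V) := by
        rintro ⟨⟨v1, _⟩, _⟩
        have v1' : Q 0 = 1 := v1
        rw [QuadraticMap.map_zero] at v1'
        exact zero_ne_one v1'
      have q6 := Set.ncard_le_ncard q4 (Set.toFinite _)
      rw [Set.ncard_insert_of_notMem q5 (Set.toFinite _), ← Nat.card_coe_set_eq, o9, ← Nat.card_coe_set_eq] at q6
      exact q6
    rw [h.card_sub] at q3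
    have q7 : finrank F ↥(fx b ⊓ fx u) = 2 := by
      generalize finrank F ↥(fx b ⊓ fx u) = i at q2 q3
      interval_cases i <;> omega
    have q8 : fx b ⊓ fx u = fx b := Submodule.eq_of_le_of_finrank_eq inf_le_left (by rw [q7, h2])
    exact inf_eq_left.1 q8
  -- the fixed space of `u`
  have r1 : finrank F (fx u) = 2 := by
    have r2 := h.mod hb (fx u) (comm_inf hab)
    rw [inf_eq_right.2 q1, h2] at r2
    have r3 := h.lt_eight hu1
    have r4 : 2 ≤ finrank F (fx u) := by rw [← h2]; exact Submodule.finrank_mono q1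
    generalize finrank F (fx u) = i at r2 r3 r4
    interval_cases i <;> first | rfl | (exfalso; revert r2; decide)
  -- `(u - 1) ^ 3 = 0`
  have h33 : ∀ x : Module.End F V, (3 : ℕ) • x = 0 := by
    intro x
    rw [← Nat.cast_smul_eq_nsmul F]
    push_cast
    rw [h.three, zero_smul]
  have r5 : (u - 1) * ((u - 1) * (u - 1)) = 0 := by
    have r6 : (u - 1) * ((u - 1) * (u - 1)) = u ^ 3 - 1 + (3 : ℕ) • (u - u ^ 2) := by noncomm_ring
    rw [r6, hu, h33, sub_self, add_zero]
  -- rank nullity
  have key : ∀ W : Submodule F V, finrank F W ≤ finrank F (W.map (u - 1)) + 2 := by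
    intro W
    have h1 := LinearMap.finrank_range_add_finrank_ker ((u - 1).domRestrict W)
    rw [LinearMap.range_domRestrict] at h1
    have h4 : finrank F (LinearMap.ker ((u - 1).domRestrict W)) ≤ finrank F (fx u) := by
      let φ : LinearMap.ker ((u - 1).domRestrict W) →ₗ[F] fx u :=
        LinearMap.codRestrict (fx u) (W.subtype ∘ₗ (LinearMap.ker ((u - 1).domRestrict W)).subtype) (by
          rintro ⟨⟨x, hx⟩, hx2⟩
          exact hx2)
      apply LinearMap.finrank_le_finrank_of_injective (f := φ)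
      rintro ⟨⟨x, hx⟩, hx2⟩ ⟨⟨y, hy⟩, hy2⟩ hxy
      have : x = y := congrArg Subtype.val hxy
      subst this
      rfl
    rw [r1] at h4
    omega
  have k1 := key ⊤
  have k2 := key ((⊤ : Submodule F V).map (u - 1))
  have k3 := key (((⊤ : Submodule F V).map (u - 1)).map (u - 1))
  have k4 : ((((⊤ : Submodule F V).map (u - 1)).map (u - 1)).map (u - 1)) = ⊥ := by
    rw [eq_bot_iff]
    rintro _ ⟨_, ⟨_, ⟨x, _, rfl⟩, rfl⟩, rfl⟩
    exact LinearMap.congr_fun r5 x
  rw [k4, finrank_bot] at k3
  rw [finrank_top, h.dim] at k1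
  omega

end Cfsg.Agent.H420.OEightThree
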