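import Cfsg.Agent.H420.Lift
import Cfsg.Agent.H420.OEightThree
import Cfsg.Agent.LieClassical.QuadCount
import Cfsg.Agent.LieClassical.OrthForms
import Cfsg.Agent.H363.Frat

/-!
# The prime graph of `PΩ⁺₈(3)`: no elements of orders 91, 65, 21

`card` of the group: `2 ^ 12 * 3 ^ 12 * 5 ^ 2 * 7 * 13`.
-/

set_option autoImplicit false

namespace Cfsg.Agent.H420.DFourThree

open QuadraticMap Cfsg.Agent.H420.Lift Cfsg.Agent.H420.Fix Cfsg.Agent.H420.OEightThree
open Cfsg.Agent.LieClassical.OmegaReindex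
open Cfsg.Agent.H363.Frat (NonAdj)

variable {F : Type*} [Field F] [Fintype F]

theorem dat (hF : Fintype.card F = 3) : Dat (quadPlus 4 F) where
  card := by rw [Nat.card_eq_fintype_card, hF]
  dim := by rw [Module.finrank_fintype_fun_eq_card]; simp
  nondeg := by
    intro x hx
    exact (quadPlus_nondegenerate (m := 4) (F := F)).1 x hx
  zeros := by
    classical
    have h := Cfsg.Agent.LieClassical.QuadCount.card_plus (F := F) 4 0
    rw [if_pos rfl, hF] at h
    rw [coe_quadPlus]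
    change 3 * Nat.card {v : Fin 4 ⊕ Fin 4 → F // Cfsg.quadFormPlus 4 F v = 0} + 3 ^ 4 = 3 ^ 8 + 3 ^ 5 at h
    change Nat.card {v : Fin 4 ⊕ Fin 4 → F // Cfsg.quadFormPlus 4 F v = 0} = 2241
    omega
  ones := by
    classical
    have h := Cfsg.Agent.LieClassical.QuadCount.card_plus (F := F) 4 1
    rw [if_neg one_ne_zero, hF] at h
    rw [coe_quadPlus]
    change 3 * Nat.card {v : Fin 4 ⊕ Fin 4 → F // Cfsg.quadFormPlus 4 F v = 1} + 3 ^ 4 = 3 ^ 8 + 0 at h
    change Nat.card {v : Fin 4 ⊕ Fin 4 → F // Cfsg.quadFormPlus 4 F v = 1} = 2160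
    omega

/-- a pair of commuting isometries -/
theorem exists_pair {r s : ℕ} (hr : r.Prime) (hs : s.Prime) (hr2 : r ≠ 2) (hs2 : s ≠ 2)
    {x : Cfsg.POmega F ⇑(quadPlus 4 F)} (hx : orderOf x = r * s) :
    ∃ a b : Module.End F (Fin 4 ⊕ Fin 4 → F), a ^ r = 1 ∧ b ^ s = 1 ∧ a ≠ 1 ∧ b ≠ 1 ∧ a * b = b * a ∧
      (∀ v, quadPlus 4 F (a v) = quadPlus 4 F v) ∧ (∀ v, quadPlus 4 F (b v) = quadPlus 4 F v) := by
  have hodd : Odd (r * s) := (hr.odd_of_ne_two hr2).mul (hs.odd_of_ne_two hs2)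
  obtain ⟨g, -, hg⟩ := exists_lift (quadPlus 4 F) quadPlus_nondegenerate (by simp) (quadPlus_isotropic (by norm_num))
    hodd hx
  set φ := (opHom ⇑(quadPlus 4 F)).comp (Cfsg.Omega F ⇑(quadPlus 4 F)).subtype with hφ
  have hinj : Function.Injective φ := (opHom_injective _).comp Subtype.val_injective
  refine ⟨φ (g ^ s), φ (g ^ r), ?_, ?_, ?_, ?_, ?_, ?_, ?_⟩
  · rw [← map_pow, ← pow_mul, mul_comm s r, ← hg, pow_orderOf_eq_one, map_one]
  · rw [← map_pow, ← pow_mul, ← hg, pow_orderOf_eq_one, map_one]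
  · rw [← map_one φ]
    intro h
    have h1 := orderOf_dvd_of_pow_eq_one (hinj h)
    rw [hg] at h1
    have h2 := Nat.le_of_dvd hs.pos h1
    have h3 := Nat.mul_lt_mul_of_lt_of_le' hr.one_lt (le_refl s) hs.pos
    omega
  · rw [← map_one φ]
    intro h
    have h1 := orderOf_dvd_of_pow_eq_one (hinj h)
    rw [hg] at h1
    have h2 := Nat.le_of_dvd hr.pos h1
    have h3 := Nat.mul_lt_mul_of_lt_of_le' hs.one_lt (le_refl r) hr.pos
    rw [mul_comm s r] at h3
    omega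
  · rw [← map_mul, ← map_mul, ← pow_add, ← pow_add, add_comm]
  · exact fun v => opHom_iso _ _ v
  · exact fun v => opHom_iso _ _ v

variable (hF : Fintype.card F = 3)
include hF

theorem nonAdj_seven_thirteen : NonAdj (Cfsg.POmega F (Cfsg.quadFormPlus 4 F)) 7 13 := by
  rw [← coe_quadPlus]
  intro x hx
  obtain ⟨b, a, hb, ha, hb1, ha1, hab, hqb, hqa⟩ := exists_pair (by norm_num) (by norm_num) (by norm_num) (by norm_num) hx
  exact (dat hF).no91 ha hb ha1 hb1 hab.symm hqa hqb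

theorem nonAdj_five_thirteen : NonAdj (Cfsg.POmega F (Cfsg.quadFormPlus 4 F)) 5 13 := by
  rw [← coe_quadPlus]
  intro x hx
  obtain ⟨b, a, hb, ha, hb1, ha1, hab, hqb, hqa⟩ := exists_pair (by norm_num) (by norm_num) (by norm_num) (by norm_num) hx
  exact (dat hF).no65 ha hb ha1 hb1 hab.symm hqa

theorem nonAdj_three_seven : NonAdj (Cfsg.POmega F (Cfsg.quadFormPlus 4 F)) 3 7 := by
  rw [← coe_quadPlus]
  intro x hx
  obtain ⟨u, b, hu, hb, hu1, hb1, hab, hqu, hqb⟩ := exists_pair (by norm_num) (by norm_num) (by norm_num) (by norm_num) hx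
  exact (dat hF).no21 hb hu hb1 hu1 hab.symm hqb hqu

end Cfsg.Agent.H420.DFourThree
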