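import Cfsg.Agent.H420.Fix

/-!
# Isometries of order prime to the characteristic: the moved part

`mv a = range (a - 1)`. For an isometry `a` of `Q` with `a ^ r = 1`, `r ≠ 0` in the field:
* `disj` : `mv a ⊓ fx a = ⊥`;
* `perp` : `mv a` is orthogonal to `fx a`;
* `eq_zero` : a vector of `mv a` orthogonal to `mv a` is in the radical.
-/

set_option autoImplicit false

namespace Cfsg.Agent.H420.Fix

open Module QuadraticMap

variable {F : Type*} [Field F] {V : Type*} [AddCommGroup V] [Module F V]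

/-- the moved part -/
def mv (a : Module.End F V) : Submodule F V := LinearMap.range (a - 1)

theorem mem_mv {a : Module.End F V} {v : V} : v ∈ mv a ↔ ∃ u, a u - u = v := by
  rw [mv, LinearMap.mem_range]
  rfl

theorem sub_mem_mv (a : Module.End F V) (u : V) : a u - u ∈ mv a := mem_mv.2 ⟨u, rfl⟩

theorem map_mem_mv {a : Module.End F V} {v : V} (h : v ∈ mv a) : a v ∈ mv a := by
  have h1 := (mv a).add_mem (sub_mem_mv a v) h
  rwa [sub_add_cancel] at h1

theorem comm_mem_mv {a b : Module.End F V} (hab : a * b = b * a) {v : V} (h : v ∈ mv b) : a v ∈ mv b := by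
  obtain ⟨u, rfl⟩ := mem_mv.1 h
  refine mem_mv.2 ⟨a u, ?_⟩
  rw [map_sub]
  congr 1
  exact (LinearMap.congr_fun hab u).symm

/-- the norm operator -/
def nm (a : Module.End F V) (r : ℕ) : Module.End F V := ∑ i ∈ Finset.range r, a ^ i

theorem pow_fx {a : Module.End F V} {v : V} (h : v ∈ fx a) (i : ℕ) : (a ^ i) v = v := by
  induction i with
  | zero => rfl
  | succ i ih =>
    rw [pow_succ, Module.End.mul_apply, mem_fx.1 h, ih]

theorem nm_fx {a : Module.End F V} {v : V} (h : v ∈ fx a) (r : ℕ) : nm a r v = (r : F) • v := by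
  rw [nm, LinearMap.sum_apply, Finset.sum_congr rfl (fun i _ => pow_fx h i), Finset.sum_const, Finset.card_range,
    Nat.cast_smul_eq_nsmul]

theorem nm_mv {a : Module.End F V} {r : ℕ} (ha : a ^ r = 1) {v : V} (h : v ∈ mv a) : nm a r v = 0 := by
  obtain ⟨u, rfl⟩ := mem_mv.1 h
  have h1 := geom_sum_mul a r
  rw [ha, sub_self] at h1
  exact LinearMap.congr_fun h1 u

theorem nm_mem_fx {a : Module.End F V} {r : ℕ} (ha : a ^ r = 1) (v : V) : nm a r v ∈ fx a := by
  have h1 := mul_geom_sum a r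
  rw [ha, sub_self] at h1
  rw [mem_fx, ← sub_eq_zero]
  exact LinearMap.congr_fun h1 v

theorem disj {a : Module.End F V} {r : ℕ} (ha : a ^ r = 1) (hr : (r : F) ≠ 0) {v : V} (h1 : v ∈ mv a)
    (h2 : v ∈ fx a) : v = 0 := by
  have h3 := nm_mv ha h1
  rw [nm_fx h2] at h3
  exact (smul_eq_zero.1 h3).resolve_left hr

theorem pow_sub_mem_mv (a : Module.End F V) (i : ℕ) (v : V) : (a ^ i) v - v ∈ mv a := by
  induction i with
  | zero => simp
  | succ i ih =>
    have h1 : (a ^ (i + 1)) v - v = (a ((a ^ i) v) - (a ^ i) v) + ((a ^ i) v - v) := by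
      rw [pow_succ', Module.End.mul_apply]
      abel
    rw [h1]
    exact (mv a).add_mem (sub_mem_mv a _) ih

theorem smul_sub_nm_mem_mv (a : Module.End F V) (r : ℕ) (v : V) : nm a r v - (r : F) • v ∈ mv a := by
  have h1 : nm a r v - (r : F) • v = ∑ i ∈ Finset.range r, ((a ^ i) v - v) := by
    rw [Finset.sum_sub_distrib, nm, LinearMap.sum_apply, Finset.sum_const, Finset.card_range, Nat.cast_smul_eq_nsmul]
  rw [h1]
  exact (mv a).sum_mem fun i _ => pow_sub_mem_mv a i v

variable {Q : QuadraticForm F V}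

theorem polar_map {a : Module.End F V} (ha : ∀ v, Q (a v) = Q v) (u v : V) :
    polar Q (a u) (a v) = polar Q u v := by
  simp only [polar, ← map_add, ha]

theorem perp {a : Module.End F V} (ha : ∀ v, Q (a v) = Q v) {u w : V} (hu : u ∈ fx a) (hw : w ∈ mv a) :
    polar Q u w = 0 := by
  obtain ⟨x, rfl⟩ := mem_mv.1 hw
  rw [polar_sub_right, sub_eq_zero]
  conv_lhs => rw [← mem_fx.1 hu]
  exact polar_map ha u x

theorem rad_of_perp {a : Module.End F V} (ha : ∀ v, Q (a v) = Q v) {r : ℕ} (har : a ^ r = 1) (hr : (r : F) ≠ 0)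
    {w : V} (hw : w ∈ mv a) (h : ∀ x ∈ mv a, polar Q w x = 0) (x : V) : polar Q w x = 0 := by
  have h1 := h _ (smul_sub_nm_mem_mv a r x)
  rw [polar_sub_right, polar_smul_right] at h1
  have h2 : polar Q w (nm a r x) = 0 := by
    rw [polar_comm]
    exact perp ha (nm_mem_fx har x) hw
  rw [h2, zero_sub, neg_eq_zero] at h1
  exact (smul_eq_zero.1 h1).resolve_left hr

theorem rad_of_perp_fx {a : Module.End F V} (ha : ∀ v, Q (a v) = Q v) {r : ℕ} (har : a ^ r = 1) (hr : (r : F) ≠ 0)
    {w : V} (hw : w ∈ fx a) (h : ∀ x ∈ fx a, polar Q w x = 0) (x : V) : polar Q w x = 0 := by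
  have h1 := perp ha hw (smul_sub_nm_mem_mv a r x)
  rw [polar_sub_right, polar_smul_right, h _ (nm_mem_fx har x), zero_sub, neg_eq_zero] at h1
  exact (smul_eq_zero.1 h1).resolve_left hr

/-- A form which is constant on the nonzero vectors of a subspace with at least two independent vectors is zero
there (odd characteristic). -/
theorem zero_of_const (h2 : (2 : F) ≠ 0) {W : Submodule F V} {c : F} (hW : ∀ v ∈ W, v ≠ 0 → Q v = c) {u v : V}
    (hu : u ∈ W) (hv : v ∈ W) (hu0 : u ≠ 0) (hv0 : v ≠ 0) (h1 : u + v ≠ 0) (h3 : u - v ≠ 0) : c = 0 := by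
  have h4 : Q (u + v) + Q (u - v) = 2 * (Q u + Q v) := by
    have h5 : Q (u + v) = Q u + Q v + polar Q u v := by
      rw [polar]; ring
    have h6 : Q (u - v) = Q u + Q v - polar Q u v := by
      have h7 : polar Q u (-v) = - polar Q u v := polar_neg_right ..
      rw [sub_eq_add_neg]
      have h8 : Q (u + -v) = Q u + Q (-v) + polar Q u (-v) := by
        rw [polar]; ring
      rw [h8, h7, QuadraticMap.map_neg]
      ring
    rw [h5, h6]
    ring
  rw [hW _ (W.add_mem hu hv) h1, hW _ (W.sub_mem hu hv) h3, hW _ hu hu0, hW _ hv hv0] at h4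
  have h5 : (2 : F) * c = 0 := by linear_combination -h4
  exact (mul_eq_zero.1 h5).resolve_left h2

end Cfsg.Agent.H420.Fix
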