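import Cfsg.Agent.H420.DFourThree
import Cfsg.Agent.H420.Chief
import Cfsg.Agent.OrdDiv.Main
import Cfsg.Agent.S0293
import Cfsg.Agent.UGT.U2.Rec.Congr

/-!
# A finite group with the order of `PΩ⁺₈(3)` without elements of orders 91, 65, 21 is `PΩ⁺₈(3)`
-/

set_option autoImplicit false

namespace Cfsg.Agent.H420.OrderGraphEight

open Subgroup Cfsg Cfsg.Agent.OrdDiv
open Cfsg.Agent.H363.Frat (NonAdj)

universe u

theorem cands_eq : (cands [(2, 12), (3, 12), (5, 2), (7, 1), (13, 1)] 4952179814400).filter
    (fun g => ordN g % 2275 == 0) = [.oplus 4 3, .g2 4] := by decide +kernel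

theorem card_L {F : Type*} [Field F] [Fintype F] (hF : Fintype.card F = 3) :
    Nat.card (Cfsg.POmega F (Cfsg.quadFormPlus 4 F)) = 4952179814400 := by
  have h := Cfsg.Agent.S0293.result hF 4 le_rfl
  norm_num [Finset.prod_range_succ] at h
  omega

theorem equiv_L {F F' : Type*} [Field F] [Fintype F] [Field F'] [Fintype F'] (hF : Fintype.card F = 3)
    (hF' : Fintype.card F' = 3) :
    Nonempty (Cfsg.POmega F (Cfsg.quadFormPlus 4 F) ≃* Cfsg.POmega F' (Cfsg.quadFormPlus 4 F')) := by
  have σ : F ≃+* F' := FiniteField.ringEquivOfCardEq (hF.trans hF'.symm)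
  refine Cfsg.Agent.UGT.U2.Rec.Congr.nonempty_POmega σ (fun v => ?_)
  simp [quadFormPlus, map_sum, map_mul]

theorem result (T : OrderTable.{u}) (hS : ∀ (X : Type u) [Group X] [Finite X] [IsSimpleGroup X], IsKnownSimple' X)
    {G : Type u} [Group G] [Finite G] (hcard : Nat.card G = 4952179814400) (h1 : NonAdj G 7 13) (h2 : NonAdj G 5 13)
    (h3 : NonAdj G 3 7) :
    ∃ (F : Type) (_ : Field F) (_ : Fintype F), Fintype.card F = 3 ∧
      Nonempty (G ≃* POmega F (quadFormPlus 4 F)) := by
  obtain ⟨K, hK, M, hM, hK13, hM13, hmin⟩ := Chief.exists_chief (G := G) (p := 13) (by norm_num)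
    (by rw [hcard]; norm_num)
  have hcG : Nat.card G = Nat.card K * (Nat.card M * M.index) := by
    rw [M.card_mul_index, mul_comm]
    exact K.card_eq_card_quotient_mul_card_subgroup
  have hc := hcG
  rw [hcard] at hc
  have hMdvd : Nat.card M ∣ 4952179814400 := ⟨Nat.card K * M.index, by rw [hc]; ring⟩
  have hKdvd : Nat.card K ∣ 4952179814400 := ⟨Nat.card M * M.index, hc⟩
  have hM169 : ¬ 13 ^ 2 ∣ Nat.card M := fun h => by
    have := h.trans hMdvd
    revert this
    norm_num
  have hf13 : (Nat.card M).factorization 13 = 1 :=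
    Chief.factorization_one (by norm_num) Nat.card_pos.ne' hM13 hM169
  have hsimple := Cfsg.Agent.H363.Frat.isSimple_of_minimal M hmin (by norm_num) hM13 hM169
  -- the index of `K`
  have hK13' : 13 ^ 1 ∣ K.index := by
    rw [pow_one, K.index_eq_card, ← M.card_mul_index]
    exact hM13.mul_right _
  -- `5` does not divide `|K|`
  have hK5 : ¬ 5 ∣ Nat.card K := by
    intro h
    have h4 := Cfsg.Agent.H363.Frat.pow_dvd_of_normal (p := 13) (s := 5) (by norm_num) (by norm_num) (by norm_num)
      h2.symm K hK13'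
    have h5 : 1 ≤ (Nat.card K).factorization 5 :=
      (Nat.Prime.pow_dvd_iff_le_factorization (by norm_num) Nat.card_pos.ne').1 (by rwa [pow_one])
    have h6 : (Nat.card K).factorization 5 ≤ 2 := by
      by_contra hc6
      have h7 : 5 ^ 3 ∣ Nat.card K :=
        (Nat.Prime.pow_dvd_iff_le_factorization (by norm_num) Nat.card_pos.ne').2 (by omega)
      have h8 := h7.trans hKdvd
      revert h8
      norm_num
    generalize (Nat.card K).factorization 5 = f at h4 h5 h6
    interval_cases f
    · revert h4; norm_num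
    · revert h4; norm_num
  have hK7 : ¬ 7 ∣ Nat.card K := by
    intro h
    have h4 := Cfsg.Agent.H363.Frat.pow_dvd_of_normal (p := 13) (s := 7) (by norm_num) (by norm_num) (by norm_num)
      h1.symm K hK13'
    rw [Chief.factorization_one (by norm_num) Nat.card_pos.ne' h (fun h7 => by
      have h8 := h7.trans hKdvd
      revert h8
      norm_num)] at h4
    revert h4; norm_num
  -- `5`, `7` do not divide the index of `M`
  have hI5 : ¬ 5 ∣ M.index := by
    intro h
    have h4 := Cfsg.Agent.H363.Frat.pow_dvd_of_normal (p := 5) (s := 13) (by norm_num) (by norm_num) (by norm_num)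
      (h2.quotient K) M (k := 1) (by rwa [pow_one])
    rw [hf13] at h4
    revert h4; norm_num
  have hI7 : ¬ 7 ∣ M.index := by
    intro h
    have h4 := Cfsg.Agent.H363.Frat.pow_dvd_of_normal (p := 7) (s := 13) (by norm_num) (by norm_num) (by norm_num)
      (h1.quotient K) M (k := 1) (by rwa [pow_one])
    rw [hf13] at h4
    revert h4; norm_num
  have hM25 : 25 ∣ Nat.card M := by
    have h4 : 5 ^ 2 ∣ Nat.card M * (Nat.card K * M.index) := by
      rw [show Nat.card M * (Nat.card K * M.index) = Nat.card K * (Nat.card M * M.index) by ring, ← hc]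
      norm_num
    have h5 : Nat.Coprime (5 ^ 2) (Nat.card K * M.index) := by
      apply Nat.Coprime.pow_left
      rw [Nat.Prime.coprime_iff_not_dvd (by norm_num), Nat.Prime.dvd_mul (by norm_num)]
      exact not_or.2 ⟨hK5, hI5⟩
    exact h5.dvd_of_dvd_mul_right h4
  have hM7 : 7 ∣ Nat.card M := by
    have h4 : 7 ∣ Nat.card M * (Nat.card K * M.index) := by
      rw [show Nat.card M * (Nat.card K * M.index) = Nat.card K * (Nat.card M * M.index) by ring, ← hc]
      norm_num
    have h5 : Nat.Coprime 7 (Nat.card K * M.index) := by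
      rw [Nat.Prime.coprime_iff_not_dvd (by norm_num), Nat.Prime.dvd_mul (by norm_num)]
      exact not_or.2 ⟨hK7, hI7⟩
    exact h5.dvd_of_dvd_mul_right h4
  have hM2275 : 2275 ∣ Nat.card M := by
    have h4 : 7 * 13 ∣ Nat.card M := Nat.Coprime.mul_dvd_of_dvd_of_dvd (by norm_num) hM7 hM13
    have h5 : 25 * (7 * 13) ∣ Nat.card M := Nat.Coprime.mul_dvd_of_dvd_of_dvd (by norm_num) hM25 h4
    exact h5
  have hna : ¬ ∀ a b : M, a * b = b * a := by
    intro hab
    have : IsMulCommutative M := ⟨⟨hab⟩⟩
    have hp : (Nat.card M).Prime := by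
      let _i : CommGroup M := { (inferInstance : Group M) with mul_comm := hab }
      exact IsSimpleGroup.prime_card
    have h4 := (Nat.prime_dvd_prime_iff_eq (by norm_num : Nat.Prime 7) hp).1 hM7
    have h5 := (Nat.prime_dvd_prime_iff_eq (by norm_num : Nat.Prime 13) hp).1 hM13
    omega
  obtain ⟨g, hg, hr, hgc⟩ := exists_good T (hS M) hna (l := [(2, 12), (3, 12), (5, 2), (7, 1), (13, 1)])
    (by decide +kernel) hMdvd
  have hg' : g ∈ (cands [(2, 12), (3, 12), (5, 2), (7, 1), (13, 1)] 4952179814400).filter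
      (fun g => ordN g % 2275 == 0) := by
    refine List.mem_filter.2 ⟨hg, ?_⟩
    rw [← hgc]
    simpa using Nat.mod_eq_zero_of_dvd hM2275
  rw [cands_eq] at hg'
  simp only [List.mem_cons, List.not_mem_nil, or_false] at hg'
  rcases hg' with rfl | rfl
  · -- the group itself
    obtain ⟨F, i1, i2, hF, ⟨e⟩⟩ := hr
    have hcM : Nat.card M = 4952179814400 := by rw [Nat.card_congr e.toEquiv, card_L hF]
    have hKI : Nat.card K * M.index = 1 := by
      rw [hcM] at hc
      have : 4952179814400 * (Nat.card K * M.index) = 4952179814400 * 1 := by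
        rw [mul_one]
        calc 4952179814400 * (Nat.card K * M.index) = Nat.card K * (4952179814400 * M.index) := by ring
          _ = 4952179814400 := hc.symm
      exact Nat.eq_of_mul_eq_mul_left (by norm_num) this
    have hK1 : K = ⊥ := Subgroup.card_eq_one.1 (Nat.eq_one_of_mul_eq_one_right hKI)
    have hM1 : M = ⊤ := Subgroup.index_eq_one.1 (Nat.eq_one_of_mul_eq_one_left hKI)
    subst hM1
    subst hK1
    exact ⟨F, i1, i2, hF, ⟨(QuotientGroup.quotientBot.symm.trans Subgroup.topEquiv.symm).trans e⟩⟩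
  · -- `G₂(4)`
    exfalso
    have hcM : Nat.card M = 251596800 := by
      rw [hgc]; decide +kernel
    have hKI : Nat.card K * M.index = 3 ^ 9 := by
      rw [hcM] at hc
      have : 251596800 * (Nat.card K * M.index) = 251596800 * 3 ^ 9 := by
        calc 251596800 * (Nat.card K * M.index) = Nat.card K * (251596800 * M.index) := by ring
          _ = 4952179814400 := hc.symm
          _ = 251596800 * 3 ^ 9 := by norm_num
      exact Nat.eq_of_mul_eq_mul_left (by norm_num) this
    obtain ⟨m, hm, hKm⟩ := (Nat.dvd_prime_pow Nat.prime_three).1 (Dvd.intro _ hKI)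
    obtain ⟨j, hj, hIj⟩ := (Nat.dvd_prime_pow Nat.prime_three).1 (Dvd.intro_left _ hKI)
    have hmj : m + j = 9 := by
      rw [hKm, hIj, ← pow_add] at hKI
      exact Nat.pow_right_injective (le_refl 3 |>.trans' (by norm_num)) hKI
    have h4 := Cfsg.Agent.H363.Frat.pow_dvd_of_normal (p := 3) (s := 7) (by norm_num) (by norm_num) (by norm_num)
      (h3.quotient K) M (k := j) (by rw [hIj])
    have h5 := Cfsg.Agent.H363.Frat.pow_dvd_of_normal (p := 7) (s := 3) (by norm_num) (by norm_num) (by norm_num)
      h3.symm K (k := 1) (by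
        rw [pow_one, K.index_eq_card, ← M.card_mul_index]
        exact hM7.mul_right _)
    rw [hcM] at h4
    have h6 : (251596800 : ℕ).factorization 7 = 1 :=
      Chief.factorization_one (by norm_num) (by norm_num) (by norm_num) (by norm_num)
    rw [h6] at h4
    rw [hKm, Nat.Prime.factorization_pow Nat.prime_three, Finsupp.single_eq_same] at h5
    have hj1 : j ≤ 1 := by
      by_contra hj2
      have h7 : 3 ^ 2 ∣ 3 ^ j := pow_dvd_pow 3 (by omega)
      have h8 := h7.trans h4
      revert h8
      norm_num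
    have hm8 : m = 8 ∨ m = 9 := by omega
    rcases hm8 with rfl | rfl
    · revert h5; norm_num
    · revert h5; norm_num

end Cfsg.Agent.H420.OrderGraphEight
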